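import Groth.Agent.AlgSt.K739.Alg
import Groth.Agent.AlgSt.K743.Chart
import Groth.Agent.AlgSt.K743.FlatCover
import Groth.Agent.AlgSt.K737.LocLift

/-!
# Fppf descent of properties of the diagonal

* `K739.Descent.exists_lift`: lifting `y : (Sch/U) ⟶ 𝒴` fppf locally on `U` to `𝒲`, for `w : 𝒲 ⟶ 𝒴` flat, locally
  of finite presentation, surjective.
* `K739.Descent.repByAlgSpWith_diag_of_local`: `P(diag f)` can be tested after restriction to fppf covers of `U`.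
* `K739.Descent.repByAlgSpWith_diag_of_fppf`: `P(diag (fpFst w f))` implies `P(diag f)`.
-/

set_option autoImplicit false
set_option linter.unusedVariables false
set_option backward.isDefEq.respectTransparency false
set_option backward.isDefEq.respectTransparency.types false

universe w₃ v₃ w₂ v₂ w₁ v₁ w' v' w v u

open CategoryTheory CategoryTheory.Limits AlgebraicGeometry Opposite

namespace K739.Descent

open K739.Psh K739.Rep K739.Isom K739.Diag K739.DiagComp K739.Props K739.Alg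

section Lift

variable {S : Scheme.{u}} {𝒲 : BasedCategory.{v₂, w₂} (Over S)} {𝒴 : BasedCategory.{v', w'} (Over S)}

/-- Fppf local lifting along a flat, locally finitely presented, surjective morphism (any `P`). -/
theorem exists_lift {P : MorphismProperty Scheme.{u}} (w : 𝒲 ⥤ᵇ 𝒴) (hw : AlgSt.RepByAlgSpWith (AlgSp.LocP P) w)
    (hw' : AlgSt.RepByAlgSpWith AlgSp.IsSurjectiveMor w) {U : Over S} (y : FibCat.overCat U ⥤ᵇ 𝒴) :
    ∃ (V : Over S) (k : V ⟶ U) (v : FibCat.overCat V ⥤ᵇ 𝒲), P k.left ∧ Surjective k.left ∧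
      Nonempty (BasedFunctor.comp v w ≅ BasedFunctor.comp (AlgSt.overMap k) y) := by
  have := K735.Top.isSurjectiveMor_respectsIso (S := S)
  obtain ⟨F, e, he, hP⟩ := hw U y
  have hsurj : AlgSp.IsSurjectiveMor (AlgSt.spMapOfOver (BasedFunctor.comp e (FibCat.fpFst y w))) :=
    (K735.Rep.RepOver.of_rep (hw' U y) e he).2
  obtain ⟨V, p, a, hp, hp', ha, haP⟩ := K737.LocLift.exists_chart F.property _ hP
  have hs := K737.LocLift.surjective_left hsurj hp' ha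
  obtain ⟨k, hk, ⟨i⟩⟩ := K743.Chart.exists_overMap_of_sp p (BasedFunctor.comp e (FibCat.fpFst y w))
  have hka : k = a := (AlgSp.yon S).map_injective (hk.trans ha)
  subst hka
  let E : FibCat.overCat V ⥤ᵇ FibCat.fp y w :=
    BasedFunctor.comp (AlgSt.ofOverCat V) (BasedFunctor.comp (AlgSt.ofSpMap p) e)
  refine ⟨V, k, BasedFunctor.comp E (FibCat.fpSnd y w), haP, hs, ⟨?_⟩⟩
  exact (wl E (FibCat.fpIso y w)).symm ≪≫ wr i y

/-- Lifting for the conjunction flat + locally of finite presentation. -/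
theorem exists_fppf_lift (w : 𝒲 ⥤ᵇ 𝒴) (hw₁ : AlgSt.RepByAlgSpWith (AlgSp.LocP @Flat) w)
    (hw₂ : AlgSt.RepByAlgSpWith (AlgSp.LocP @LocallyOfFinitePresentation) w)
    (hw₃ : AlgSt.RepByAlgSpWith AlgSp.IsSurjectiveMor w) {U : Over S} (y : FibCat.overCat U ⥤ᵇ 𝒴) :
    ∃ (V : Over S) (k : V ⟶ U) (v : FibCat.overCat V ⥤ᵇ 𝒲), K595.RepDesc.Fppf k.left ∧
      Nonempty (BasedFunctor.comp v w ≅ BasedFunctor.comp (AlgSt.overMap k) y) := by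
  obtain ⟨V, k, v, h1, h2, h3⟩ := exists_lift w (K743.FlatCover.repByAlgSpWith_locP_inf hw₁ hw₂) hw₃ y
  exact ⟨V, k, v, ⟨⟨h2, h1.1⟩, h1.2⟩, h3⟩

end Lift

section Local

variable {S : Scheme.{u}} {𝒳 : BasedCategory.{u, w} (Over S)} {𝒴 : BasedCategory.{v', w'} (Over S)}

/-- `P(diag f)` can be tested fppf locally. -/
theorem repByAlgSpWith_diag_of_local {P : MorphismProperty (AlgSp.Sp S)} (hP : IsoInv P) (hPd : FppfDesc P)
    (h𝒳 : FibCat.IsFibGrpd 𝒳.p) (h𝒴 : FibCat.IsFibGrpd 𝒴.p) (f : 𝒳 ⥤ᵇ 𝒴)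
    (hf : AlgSt.RepByAlgSp1 (FibCat.diag f))
    (h : ∀ (U : Over S) (x₁ x₂ : FibCat.overCat U ⥤ᵇ 𝒳) (φ : BasedFunctor.comp x₁ f ≅ BasedFunctor.comp x₂ f),
      ∃ (V : Over S) (k : V ⟶ U), K595.RepDesc.Fppf k.left ∧
        RepPsh P (toBase f (BasedFunctor.comp (AlgSt.overMap k) x₁) (BasedFunctor.comp (AlgSt.overMap k) x₂)
          (resIso f k x₁ x₂ φ) h𝒳 h𝒴)) : AlgSt.RepByAlgSpWith P (FibCat.diag f) := by
  rw [repByAlgSpWith_diag_iff P _ h𝒳 h𝒴]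
  intro U x₁ x₂ φ
  obtain ⟨h1, h2, -⟩ := (repPsh_iff isoInv_top _).1
    ((repByAlgSpWith_diag_iff ⊤ f h𝒳 h𝒴).1 (repByAlgSpWith_top hf) U x₁ x₂ φ)
  obtain ⟨V, k, hk, hV⟩ := h U x₁ x₂ φ
  obtain ⟨k1, k2, k3⟩ := (repPsh_iff hP _).1 hV
  refine repPsh_of _ h1 h2 ?_
  have sq := isPullback_homMk (isPullback_restrict f k x₁ x₂ φ h𝒳 h𝒴) k1 h1 ((AlgSp.yon S).obj V).property
    ((AlgSp.yon S).obj U).property
  have hk' : AlgSp.RepWith K595.RepDesc.Fppf ((AlgSp.yon S).map k) := (AlgSp.repWith_yon_map_iff _ k).2 hk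
  exact hPd h2 (AlgSp.IsAlgSpace.yon_obj U) k2 _ ((AlgSp.yon S).map k) _ _ hk' sq k3

end Local

section Fppf

theorem iso_aux {C : Type u} [Category.{v} C] {A B D : C} (i : A ≅ B) (m : B ⟶ D) (n : A ⟶ A) (hn : n = 𝟙 A) :
    i.inv ≫ n ≫ i.hom ≫ m = m := by
  rw [hn, Category.id_comp, Iso.inv_hom_id_assoc]

variable {S : Scheme.{u}} {𝒳 : BasedCategory.{u, w} (Over S)} {𝒴 : BasedCategory.{v', w'} (Over S)}
  {𝒲 : BasedCategory.{u, w₂} (Over S)}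

/-- Fppf descent of `P(diag f)` along `w : 𝒲 ⟶ 𝒴` flat, locally of finite presentation and surjective. -/
theorem repByAlgSpWith_diag_of_fppf {P : MorphismProperty (AlgSp.Sp S)} (hP : IsoInv P) (hPd : FppfDesc P)
    (h𝒳 : FibCat.IsFibGrpd 𝒳.p) (h𝒴 : FibCat.IsFibGrpd 𝒴.p) (h𝒲 : FibCat.IsFibGrpd 𝒲.p) (f : 𝒳 ⥤ᵇ 𝒴)
    (hf : AlgSt.RepByAlgSp1 (FibCat.diag f)) (w : 𝒲 ⥤ᵇ 𝒴)
    (hw₁ : AlgSt.RepByAlgSpWith (AlgSp.LocP @Flat) w)
    (hw₂ : AlgSt.RepByAlgSpWith (AlgSp.LocP @LocallyOfFinitePresentation) w)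
    (hw₃ : AlgSt.RepByAlgSpWith AlgSp.IsSurjectiveMor w)
    (h : AlgSt.RepByAlgSpWith P (FibCat.diag (FibCat.fpFst w f))) : AlgSt.RepByAlgSpWith P (FibCat.diag f) := by
  have h𝒱 : FibCat.IsFibGrpd (FibCat.fp w f).p := K735.Fp.isFibGrpd_fp h𝒲 h𝒳 h𝒴 w f
  refine repByAlgSpWith_diag_of_local hP hPd h𝒳 h𝒴 f hf fun U x₁ x₂ φ => ?_
  obtain ⟨V, k, v, hk, ⟨ι⟩⟩ := exists_fppf_lift w hw₁ hw₂ hw₃ (BasedFunctor.comp x₁ f)
  refine ⟨V, k, hk, ?_⟩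
  let z₁ : FibCat.overCat V ⥤ᵇ FibCat.fp w f := FibCat.fpLift v (BasedFunctor.comp (AlgSt.overMap k) x₁) ι
  let z₂ : FibCat.overCat V ⥤ᵇ FibCat.fp w f := FibCat.fpLift v (BasedFunctor.comp (AlgSt.overMap k) x₂)
    (ι ≪≫ resIso f k x₁ x₂ φ)
  let θ : BasedFunctor.comp z₁ (FibCat.fpFst w f) ≅ BasedFunctor.comp z₂ (FibCat.fpFst w f) := Iso.refl v
  have h1 : bcIso w f z₁ z₂ θ = resIso f k x₁ x₂ φ := by
    apply Iso.ext
    apply BasedNatTrans.homCategory.ext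
    ext a
    exact iso_aux (appIso ι a) ((resIso f k x₁ x₂ φ).hom.toNatTrans.app a) (w.map (𝟙 (v.obj a))) (w.map_id _)
  have h2 : RepPsh P (toBase (FibCat.fpFst w f) z₁ z₂ θ h𝒱 h𝒲) :=
    (repByAlgSpWith_diag_iff P _ h𝒱 h𝒲).1 h V z₁ z₂ θ
  have h3 : RepPsh P (toBase f _ _ (bcIso w f z₁ z₂ θ) h𝒳 h𝒴) :=
    h2.of_iso (bcPshIso w f z₁ z₂ θ h𝒳 h𝒴 h𝒲 h𝒱) (bcPshIso_toBase w f z₁ z₂ θ h𝒳 h𝒴 h𝒲 h𝒱)
  rw [h1] at h3
  exact h3

end Fppf

end K739.Descent
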