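import Groth.Agent.AlgSt.K739.DiagComp
import Groth.Agent.AlgSp.K597.EtLoc
import Groth.Agent.AlgSp.K627.FpqcLocPInst
import Groth.Agent.AlgSp.K595.SepDesc
import Groth.Agent.AlgSp.K596.QC2
import Groth.Agent.S10505
import Groth.Agent.S10519
import Groth.Agent.S10520
import Groth.Agent.S10521

/-!
# Formal properties of the properties of morphisms of algebraic spaces used for stacks

For `P` one of `LocP` (locally of finite type, flat, ..., unramified, locally quasi-finite), quasi-compact, quasi-separated,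
separated, universally closed, proper:

* `BC P`, `Comp P`, `EtDesc P` (from `DiagComp`), `FppfDesc P` (descent along one representable fppf cover by a scheme).
* `Cancel P Q R`: `P (a ≫ b)` and `Q b` imply `R a`.
-/

set_option autoImplicit false
set_option linter.unusedVariables false
set_option backward.isDefEq.respectTransparency false
set_option backward.isDefEq.respectTransparency.types false

universe u

open CategoryTheory CategoryTheory.Limits AlgebraicGeometry Opposite AlgSp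

namespace K739.Props

open K739.DiagComp

variable {S : Scheme.{u}}

/-- Descent of a property of morphisms of algebraic spaces along one representable fppf cover of the base by a scheme. -/
abbrev FppfDesc (P : MorphismProperty (AlgSp.Sp S)) : Prop :=
  ∀ ⦃X Y Q : AlgSp.Sp S⦄ ⦃V : Over S⦄, AlgSp.IsAlgSpace X → AlgSp.IsAlgSpace Y → AlgSp.IsAlgSpace Q →
    ∀ (a : X ⟶ Y) (p : (AlgSp.yon S).obj V ⟶ Y) (fst : Q ⟶ X) (snd : Q ⟶ (AlgSp.yon S).obj V),
      AlgSp.RepWith K595.RepDesc.Fppf p → IsPullback fst snd a p → P snd → P a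

/-- Cancellation. -/
abbrev Cancel (P Q R : MorphismProperty (AlgSp.Sp S)) : Prop :=
  ∀ ⦃X Y Z : AlgSp.Sp S⦄, AlgSp.IsAlgSpace X → AlgSp.IsAlgSpace Y → AlgSp.IsAlgSpace Z →
    ∀ (a : X ⟶ Y) (b : Y ⟶ Z), P (a ≫ b) → Q b → R a

theorem FppfDesc.etDesc {P : MorphismProperty (AlgSp.Sp S)} (h : FppfDesc P) : EtDesc P :=
  fun _ _ _ _ hX hY hQ a p fst snd h1 h2 sq hs => h hX hY hQ a p fst snd (K595.RepDesc.repWith_fppf h1 h2) sq hs

/-! ### conjunctions -/

theorem bc_inf {P Q : MorphismProperty (AlgSp.Sp S)} (hP : BC P) (hQ : BC Q) : BC (P ⊓ Q) :=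
  fun _ _ _ _ h₁ h₂ h₃ h₄ a b a' b' sq h =>
    ⟨hP h₁ h₂ h₃ h₄ a b a' b' sq h.1, hQ h₁ h₂ h₃ h₄ a b a' b' sq h.2⟩

theorem comp_inf {P Q : MorphismProperty (AlgSp.Sp S)} (hP : Comp P) (hQ : Comp Q) : Comp (P ⊓ Q) :=
  fun _ _ _ h₁ h₂ h₃ a b ha hb => ⟨hP h₁ h₂ h₃ a b ha.1 hb.1, hQ h₁ h₂ h₃ a b ha.2 hb.2⟩

theorem FppfDesc.inf {P Q : MorphismProperty (AlgSp.Sp S)} (hP : FppfDesc P) (hQ : FppfDesc Q) :
    FppfDesc (P ⊓ Q) :=
  fun _ _ _ _ h₁ h₂ h₃ a p fst snd hp sq h =>
    ⟨hP h₁ h₂ h₃ a p fst snd hp sq h.1, hQ h₁ h₂ h₃ a p fst snd hp sq h.2⟩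

/-! ### from locality on the base -/

theorem fppf_single {Y : AlgSp.Sp S} {V : Over S} (p : (AlgSp.yon S).obj V ⟶ Y)
    (hp : AlgSp.RepWith K595.RepDesc.Fppf p) :
    AlgSp.IsFppfCover (fun _ : PUnit.{u+1} => (AlgSp.yon S).obj V) (fun _ => p) := by
  have h1 : AlgSp.RepWith @Surjective p := K595.RepDesc.repWith_mono (fun _ _ _ h => h.1.1) hp
  have h2 : AlgSp.RepWith @Flat p := K595.RepDesc.repWith_mono (fun _ _ _ h => h.1.2) hp
  have h3 : AlgSp.RepWith @LocallyOfFinitePresentation p := K595.RepDesc.repWith_mono (fun _ _ _ h => h.2) hp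
  refine ⟨fun _ => ⟨?_, ?_⟩, fun x => ⟨⟨⟩, ?_⟩⟩
  · refine K597.locP_of_repWith (fun A B C e f (he : Etale e) (hf : Flat f) => ?_) h2
    exact (inferInstance : Flat (e ≫ f))
  · refine K597.locP_of_repWith (fun A B C e f (he : Etale e) (hf : LocallyOfFinitePresentation f) => ?_) h3
    exact (inferInstance : LocallyOfFinitePresentation (e ≫ f))
  · exact K596.Pts.surjective_of_repWith h1 x

theorem fppfDesc_of_fppf {P : MorphismProperty (AlgSp.Sp S)} (h : AlgSp.IsLocalOnBase AlgSp.IsFppfCover P) :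
    FppfDesc P := by
  intro X Y Q V hX hY hQ a p fst snd hp sq hs
  exact (h (fun _ : PUnit.{u+1} => (AlgSp.yon S).obj V) (fun _ => p) hY (fun _ => AlgSp.IsAlgSpace.yon_obj V)
    (fppf_single p hp) a hX (fun _ => Q) (fun _ => snd) (fun _ => fst) (fun _ => hQ) (fun _ => sq)).2 fun _ => hs

theorem isLocalOnBase_fppf_of_fpqc {P : MorphismProperty (AlgSp.Sp S)}
    (h : AlgSp.IsLocalOnBase (AlgSp.IsFpqcCover (S := S)) P) : AlgSp.IsLocalOnBase AlgSp.IsFppfCover P := by
  intro ι Y Yi g hY hYi hg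
  exact h Yi g hY hYi (Groth.Agent.S10505.result ⟨Y, hY⟩ (fun i => ⟨Yi i, hYi i⟩)
    (fun i => ObjectProperty.homMk (g i)) hg)

theorem fppfDesc_of_fpqc {P : MorphismProperty (AlgSp.Sp S)}
    (h : AlgSp.IsLocalOnBase (AlgSp.IsFpqcCover (S := S)) P) : FppfDesc P :=
  fppfDesc_of_fppf (isLocalOnBase_fppf_of_fpqc h)

/-! ### `LocP` -/

section LocP

variable {P : MorphismProperty Scheme.{u}}

theorem bc_locP (hP : K597.EtLoc P) [P.IsStableUnderBaseChange] : BC (S := S) (AlgSp.LocP P) :=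
  fun _ _ _ _ h₁ h₂ _ h₄ _ _ _ _ sq h => K597.locP_bc hP sq h₁.hasAtlas h₂.hasAtlas h₄.hasAtlas h

theorem comp_locP (hP : K597.EtLoc P) [P.IsStableUnderComposition] : Comp (S := S) (AlgSp.LocP P) :=
  fun _ _ _ h₁ h₂ h₃ _ _ ha hb => K597.locP_comp hP h₁.hasAtlas h₂.hasAtlas h₃.hasAtlas ha hb

theorem etDesc_locP (hP : K597.EtLoc P) : EtDesc (S := S) (AlgSp.LocP P) :=
  fun _ _ _ V h₁ _ _ _ _ _ _ hp hp' sq h =>
    K597.locP_of_target hP sq h₁.hasAtlas (AlgSp.IsAlgSpace.yon_obj V).hasAtlas hp hp' h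

theorem cancel_locP (hP : K597.EtLoc P)
    (h : ∀ ⦃A B C : Scheme.{u}⦄ (u : A ⟶ B) (v : B ⟶ C), P (u ≫ v) → P u)
    (Q : MorphismProperty (AlgSp.Sp S)) : Cancel (S := S) (AlgSp.LocP P) Q (AlgSp.LocP P) :=
  fun _ _ _ h₁ h₂ h₃ _ _ hab _ => K597.locP_of_comp' hP h h₁.hasAtlas h₂.hasAtlas h₃.hasAtlas hab

end LocP

/-- Locally of finite type and unramified. -/
abbrev Unram (S : Scheme.{u}) : MorphismProperty (AlgSp.Sp S) :=
  AlgSp.LocP (@LocallyOfFiniteType ⊓ @FormallyUnramified)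

/-- Locally quasi-finite. -/
abbrev Lqf (S : Scheme.{u}) : MorphismProperty (AlgSp.Sp S) :=
  AlgSp.LocP (@LocallyQuasiFinite ⊓ @LocallyOfFiniteType)

/-- Locally of finite type. -/
abbrev Lft (S : Scheme.{u}) : MorphismProperty (AlgSp.Sp S) :=
  AlgSp.LocP @LocallyOfFiniteType

theorem bc_unram : BC (Unram S) :=
  have := K597.stableBC_inf @LocallyOfFiniteType.{u} @FormallyUnramified.{u}
  bc_locP K597.etLoc_unram

theorem comp_unram : Comp (Unram S) :=
  have := K597.stableComp_inf @LocallyOfFiniteType.{u} @FormallyUnramified.{u}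
  comp_locP K597.etLoc_unram

theorem fppfDesc_unram : FppfDesc (Unram S) := fppfDesc_of_fpqc (K627.FpqcLocPInst.unram S)

theorem cancel_unram (Q : MorphismProperty (AlgSp.Sp S)) : Cancel (Unram S) Q (Unram S) :=
  cancel_locP K597.etLoc_unram (fun A B C u v (h : LocallyOfFiniteType (u ≫ v) ∧ FormallyUnramified (u ≫ v)) => by
    obtain ⟨h1, h2⟩ := h
    exact ⟨locallyOfFiniteType_of_comp u v, FormallyUnramified.of_comp u v⟩) Q

theorem bc_lqf : BC (Lqf S) :=
  have := K597.stableBC_inf @LocallyQuasiFinite.{u} @LocallyOfFiniteType.{u}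
  bc_locP K597.etLoc_lqf

theorem comp_lqf : Comp (Lqf S) :=
  have := K597.stableComp_inf @LocallyQuasiFinite.{u} @LocallyOfFiniteType.{u}
  comp_locP K597.etLoc_lqf

theorem fppfDesc_lqf : FppfDesc (Lqf S) := fppfDesc_of_fpqc (K627.FpqcLocPInst.lqf S)

theorem cancel_lqf (Q : MorphismProperty (AlgSp.Sp S)) : Cancel (Lqf S) Q (Lqf S) :=
  cancel_locP K597.etLoc_lqf (fun A B C u v (h : LocallyQuasiFinite (u ≫ v) ∧ LocallyOfFiniteType (u ≫ v)) => by
    obtain ⟨h1, h2⟩ := h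
    exact ⟨LocallyQuasiFinite.of_comp u v, locallyOfFiniteType_of_comp u v⟩) Q

theorem bc_lft : BC (Lft S) := bc_locP K597.etLoc_lft

theorem comp_lft : Comp (Lft S) := comp_locP K597.etLoc_lft

theorem fppfDesc_lft : FppfDesc (Lft S) := fppfDesc_of_fpqc (K627.FpqcLocPInst.lft S)

theorem cancel_lft (Q : MorphismProperty (AlgSp.Sp S)) : Cancel (Lft S) Q (Lft S) :=
  cancel_locP K597.etLoc_lft (fun A B C u v (h : LocallyOfFiniteType (u ≫ v)) => locallyOfFiniteType_of_comp u v) Q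

/-! ### quasi-compact -/

theorem bc_qc : BC (AlgSp.IsQuasiCompactMor (S := S)) :=
  fun _ _ _ _ _ _ _ _ _ _ _ _ sq h => K596.QC.isQuasiCompactMor_of_isPullback sq h

theorem comp_qc : Comp (AlgSp.IsQuasiCompactMor (S := S)) :=
  fun _ _ _ _ h₂ h₃ _ _ ha hb => K596.QC.isQuasiCompactMor_comp h₂ h₃ ha hb

theorem fppfDesc_qc : FppfDesc (AlgSp.IsQuasiCompactMor (S := S)) := fppfDesc_of_fpqc (Groth.Agent.S10519.result S)

theorem cancel_qc : Cancel (AlgSp.IsQuasiCompactMor (S := S)) AlgSp.IsQuasiSeparatedMor AlgSp.IsQuasiCompactMor :=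
  fun _ _ _ h₁ h₂ _ _ _ hab hb => K596.QC2.isQuasiCompactMor_of_comp h₁ h₂ hab hb

/-! ### quasi-separated and separated -/

theorem bc_qs : BC (AlgSp.IsQuasiSeparatedMor (S := S)) :=
  fun _ _ _ _ _ _ _ _ _ _ _ _ sq h =>
    K595.DiagRel.isQuasiSeparatedMor_isStableUnderBaseChange.of_isPullback sq h

theorem comp_qs : Comp (AlgSp.IsQuasiSeparatedMor (S := S)) :=
  fun _ _ _ _ _ _ a b ha hb => K595.DiagRel.isQuasiSeparatedMor_isMultiplicative.comp_mem a b ha hb

theorem fppfDesc_qs : FppfDesc (AlgSp.IsQuasiSeparatedMor (S := S)) :=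
  fun _ _ _ _ h₁ _ _ _ _ _ _ hp sq h => K595.SepDesc.isQuasiSeparatedMor_of_cover h₁ hp sq h

theorem bc_sep : BC (AlgSp.IsSeparatedMor (S := S)) :=
  fun _ _ _ _ _ _ _ _ _ _ _ _ sq h =>
    K595.DiagRel.isSeparatedMor_isStableUnderBaseChange.of_isPullback sq h

theorem comp_sep : Comp (AlgSp.IsSeparatedMor (S := S)) :=
  fun _ _ _ _ _ _ a b ha hb => K595.DiagRel.isSeparatedMor_isMultiplicative.comp_mem a b ha hb

theorem fppfDesc_sep : FppfDesc (AlgSp.IsSeparatedMor (S := S)) :=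
  fun _ _ _ _ h₁ _ _ _ _ _ _ hp sq h => K595.SepDesc.isSeparatedMor_of_cover h₁ hp sq h

/-- The diagonal of `a` is the base change of the diagonal of `a ≫ b`. -/
theorem isPullback_diagonal_comp {X Y Z : AlgSp.Sp S} (a : X ⟶ Y) (b : Y ⟶ Z) :
    IsPullback (𝟙 X) (pullback.diagonal a) (pullback.diagonal (a ≫ b)) (pullback.mapDesc a a b) := by
  refine ⟨⟨?_⟩, ⟨PullbackCone.IsLimit.mk _ (fun s => s.fst) ?_ ?_ ?_⟩⟩
  · apply pullback.hom_ext <;> simp
  · intro s
    simp
  · intro s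
    have h1 : s.fst = s.snd ≫ pullback.fst a a := by
      have := s.condition =≫ pullback.fst _ _
      simpa using this
    have h2 : s.fst = s.snd ≫ pullback.snd a a := by
      have := s.condition =≫ pullback.snd _ _
      simpa using this
    apply pullback.hom_ext
    · simp [← h1]
    · simp [← h2]
  · intro s m h1 h2
    simpa using h1

theorem cancel_qs (Q : MorphismProperty (AlgSp.Sp S)) :
    Cancel (AlgSp.IsQuasiSeparatedMor (S := S)) Q AlgSp.IsQuasiSeparatedMor :=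
  fun _ _ _ _ _ _ a b hab _ => MorphismProperty.of_isPullback (P := RepWith _) (isPullback_diagonal_comp a b) hab

theorem cancel_sep (Q : MorphismProperty (AlgSp.Sp S)) :
    Cancel (AlgSp.IsSeparatedMor (S := S)) Q AlgSp.IsSeparatedMor :=
  fun _ _ _ _ _ _ a b hab _ => MorphismProperty.of_isPullback (P := RepWith _) (isPullback_diagonal_comp a b) hab

theorem qs_of_sep {X Y : AlgSp.Sp S} {a : X ⟶ Y} (h : AlgSp.IsSeparatedMor a) : AlgSp.IsQuasiSeparatedMor a :=
  K595.RepDesc.repWith_mono (fun _ _ f (hf : IsClosedImmersion f) => (inferInstance : QuasiCompact f)) h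

/-! ### universally closed -/

theorem bc_uc : BC (AlgSp.IsUnivClosedMor (S := S)) :=
  fun _ _ _ _ _ _ _ _ _ _ _ _ sq h _ _ hT t _ _ sqT => h hT (t ≫ _) _ _ (sqT.paste_horiz sq)

theorem comp_uc : Comp (AlgSp.IsUnivClosedMor (S := S)) := by
  intro X Y Z hX hY hZ a b ha hb T Q hT t fst snd sq
  have sq1 := IsPullback.of_hasPullback b t
  have hQ : AlgSp.IsAlgSpace (pullback b t) := K606.RepBySp.isAlgSpace_of_isPullback_of_diag hY hT hZ.diag sq1
  let c : Q ⟶ pullback b t := sq1.lift (fst ≫ a) snd (by rw [Category.assoc]; exact sq.w)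
  have hc1 : c ≫ pullback.fst b t = fst ≫ a := sq1.lift_fst _ _ _
  have hc2 : c ≫ pullback.snd b t = snd := sq1.lift_snd _ _ _
  have sq2 : IsPullback fst c a (pullback.fst b t) := by
    refine IsPullback.of_bot ?_ hc1.symm sq1
    rw [hc2]
    exact sq
  have h1 := ha hQ _ _ _ sq2
  have h2 := hb hT t _ _ sq1
  change IsClosedMap (Points.map snd)
  have e : Points.map snd = Points.map (pullback.snd b t) ∘ Points.map c := by
    funext x
    rw [Function.comp_apply, ← Points.map_comp, hc2]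
  rw [e]
  exact h2.comp h1

theorem fppfDesc_uc : FppfDesc (AlgSp.IsUnivClosedMor (S := S)) := fppfDesc_of_fpqc (Groth.Agent.S10521.result S)

theorem uc_of_closedImm {X Y : AlgSp.Sp S} {a : X ⟶ Y} (h : AlgSp.RepWith @IsClosedImmersion a) :
    AlgSp.IsUnivClosedMor a :=
  (K596.Univ.repWith_universallyClosed_iff h.1).1
    (K595.RepDesc.repWith_mono (fun _ _ f (hf : IsClosedImmersion f) => (inferInstance : UniversallyClosed f)) h)

theorem cancel_uc : Cancel (AlgSp.IsUnivClosedMor (S := S)) AlgSp.IsSeparatedMor AlgSp.IsUnivClosedMor := by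
  intro X Y Z hX hY hZ a b hab hb
  -- the graph of `a` over `Z`
  have sq1 := IsPullback.of_hasPullback (a ≫ b) b
  have hW : AlgSp.IsAlgSpace (pullback (a ≫ b) b) :=
    K606.RepBySp.isAlgSpace_of_isPullback_of_diag hX hY hZ.diag sq1
  let γ : X ⟶ pullback (a ≫ b) b := pullback.lift (𝟙 X) a (by simp)
  have sq2 : IsPullback a γ (pullback.diagonal b)
      (pullback.lift (pullback.fst (a ≫ b) b ≫ a) (pullback.snd (a ≫ b) b)
        (by rw [Category.assoc, pullback.condition])) := by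
    refine ⟨⟨?_⟩, ⟨PullbackCone.IsLimit.mk _ (fun s => s.snd ≫ pullback.fst (a ≫ b) b) ?_ ?_ ?_⟩⟩
    · apply pullback.hom_ext
      · simp only [Category.assoc, pullback.diagonal_fst, Category.comp_id, pullback.lift_fst, γ,
          pullback.lift_fst_assoc, Category.id_comp]
      · simp [γ]
    · intro s
      have h1 := s.condition =≫ pullback.fst _ _
      simpa using h1.symm
    · intro s
      have h1 := s.condition =≫ pullback.fst _ _
      have h2 := s.condition =≫ pullback.snd _ _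
      apply pullback.hom_ext
      · simp [γ]
      · simp only [pullback.diagonal_fst, Category.comp_id, limit.lift_π, PullbackCone.mk_π_app,
          Category.assoc, pullback.diagonal_snd] at h1 h2
        simp [γ]
        rw [← h2, h1]
    · intro s m h1 h2
      rw [← h2]
      simp [γ]
  have hγ : AlgSp.RepWith @IsClosedImmersion γ := MorphismProperty.of_isPullback (P := RepWith _) sq2 hb
  have e : γ ≫ pullback.snd (a ≫ b) b = a := pullback.lift_snd _ _ _
  rw [← e]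
  exact comp_uc hX hW hY _ _ (uc_of_closedImm hγ) (bc_uc hX hZ hW hY _ _ _ _ sq1 hab)

/-! ### proper -/

theorem isProperMor_eq : (AlgSp.IsProperMor (S := S)) =
    AlgSp.IsSeparatedMor ⊓ ((Lft S ⊓ AlgSp.IsQuasiCompactMor) ⊓ AlgSp.IsUnivClosedMor) := rfl

theorem bc_proper : BC (AlgSp.IsProperMor (S := S)) :=
  isProperMor_eq (S := S) ▸ bc_inf bc_sep (bc_inf (bc_inf bc_lft bc_qc) bc_uc)

theorem comp_proper : Comp (AlgSp.IsProperMor (S := S)) :=
  isProperMor_eq (S := S) ▸ comp_inf comp_sep (comp_inf (comp_inf comp_lft comp_qc) comp_uc)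

theorem fppfDesc_proper : FppfDesc (AlgSp.IsProperMor (S := S)) :=
  isProperMor_eq (S := S) ▸ fppfDesc_sep.inf ((fppfDesc_lft.inf fppfDesc_qc).inf fppfDesc_uc)

theorem cancel_proper : Cancel (AlgSp.IsProperMor (S := S)) AlgSp.IsSeparatedMor AlgSp.IsProperMor :=
  fun _ _ _ hX hY hZ a b hab hb => ⟨cancel_sep ⊤ hX hY hZ a b hab.1 trivial,
    ⟨cancel_lft ⊤ hX hY hZ a b hab.2.1.1 trivial, cancel_qc hX hY hZ a b hab.2.1.2 (qs_of_sep hb)⟩,
    cancel_uc hX hY hZ a b hab.2.2 hb⟩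

/-! ### quasi-compact and quasi-separated -/

/-- Quasi-compact and quasi-separated. -/
abbrev Qcqs (S : Scheme.{u}) : MorphismProperty (AlgSp.Sp S) := AlgSp.IsQuasiCompactMor ⊓ AlgSp.IsQuasiSeparatedMor

theorem bc_qcqs : BC (Qcqs S) := bc_inf bc_qc bc_qs

theorem comp_qcqs : Comp (Qcqs S) := comp_inf comp_qc comp_qs

theorem fppfDesc_qcqs : FppfDesc (Qcqs S) := fppfDesc_qc.inf fppfDesc_qs

theorem cancel_qcqs : Cancel (Qcqs S) AlgSp.IsQuasiSeparatedMor (Qcqs S) :=
  fun _ _ _ hX hY hZ a b hab hb => ⟨cancel_qc hX hY hZ a b hab.1 hb, cancel_qs ⊤ hX hY hZ a b hab.2 trivial⟩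

end K739.Props
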