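import Groth.Agent.AlgSt.K739.Descent
import Groth.Agent.AlgSt.K743.Pt
import Groth.Agent.AlgSt.K740.RepBC
import Groth.Agent.AlgSp.K617.FinLoc

/-!
# Lifting charts near a point, and etale-local finiteness

* `K739.PtLift.exists_lift_at`: if `w : 𝒲 ⟶ 𝒴` is representable with `LocP P` and the point `t` of the chart
  `y : (Sch/U) ⟶ 𝒴` lies in the image of `w` then `y` lifts to `𝒲` over a neighbourhood of `t` for the `P`-topology.
* `K739.PtLift.repByAlgSpWith_finite_of_local`: finiteness of a representable functor is etale local on the target.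
-/

set_option autoImplicit false
set_option linter.unusedVariables false
set_option backward.isDefEq.respectTransparency false
set_option backward.isDefEq.respectTransparency.types false

universe v₃ w₃ v₂ w₂ v₁ w₁ w' v' w v u

open CategoryTheory CategoryTheory.Limits AlgebraicGeometry Opposite

namespace K739.PtLift

open K734.Fib K735.Pts K743.Pt

section Lift

variable {S : Scheme.{u}} {𝒲 : BasedCategory.{v₂, w₂} (Over S)} {𝒴 : BasedCategory.{v', w'} (Over S)}

theorem exists_lift_at {P : MorphismProperty Scheme.{u}} (h𝒲 : FibCat.IsFibGrpd 𝒲.p) (h𝒴 : FibCat.IsFibGrpd 𝒴.p)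
    (w : 𝒲 ⥤ᵇ 𝒴) (hw : AlgSt.RepByAlgSpWith (AlgSp.LocP P) w) {U : Over S} (y : FibCat.overCat U ⥤ᵇ 𝒴)
    (t : ↥U.left) (ht : AlgSt.Points.ofChart y t ∈ Set.range (AlgSt.Points.map w)) :
    ∃ (V : Over S) (k : V ⟶ U) (v : FibCat.overCat V ⥤ᵇ 𝒲), P k.left ∧ t ∈ Set.range k.left ∧
      Nonempty (BasedFunctor.comp v w ≅ BasedFunctor.comp (AlgSt.overMap k) y) := by
  obtain ⟨F, e, he, hP⟩ := hw U y
  obtain ⟨V, p, a, hp, hp', ha, haP⟩ := K737.LocLift.exists_chart F.property _ hP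
  obtain ⟨k, hk, ⟨i⟩⟩ := K743.Chart.exists_overMap_of_sp p (BasedFunctor.comp e (FibCat.fpFst y w))
  have hka : k = a := (AlgSp.yon S).map_injective (hk.trans ha)
  subst hka
  let E : FibCat.overCat V ⥤ᵇ FibCat.fp y w :=
    BasedFunctor.comp (AlgSt.ofOverCat V) (BasedFunctor.comp (AlgSt.ofSpMap p) e)
  refine ⟨V, k, BasedFunctor.comp E (FibCat.fpSnd y w), haP, ?_, ⟨?_⟩⟩
  · obtain ⟨x, hx⟩ := ht
    obtain ⟨q, hq, -⟩ := exists_fp h𝒲 (K735.Fp.isFibGrpd_overCat U) h𝒴 y w (pt t) x hx.symm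
    obtain ⟨q', rfl⟩ := (map_bijective_of_isEquivOver he).2 q
    obtain ⟨r, rfl⟩ := surjective_map_ofSpMap p hp' q'
    obtain ⟨r', rfl⟩ := (map_bijective_of_isEquivOver (K735.Rep.isEquivOver_ofOverCat V)).2 r
    refine ⟨toPt r', ?_⟩
    apply pt_injective
    rw [← map_overMap_pt, pt_toPt, ← hq, ← map_comp, ← map_comp, ← map_comp]
    exact (map_congr i r').symm
  · exact (wl E (FibCat.fpIso y w)).symm ≪≫ wr i y

end Lift

section Finite

variable {S : Scheme.{u}} {𝒞 : BasedCategory.{v₂, w₂} (Over S)} {𝒟 : BasedCategory.{v', w'} (Over S)}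

/-- Finiteness of a representable functor is etale local on the target. -/
theorem repByAlgSpWith_finite_of_local (G : 𝒞 ⥤ᵇ 𝒟) (hG : AlgSt.RepByAlgSp1 G)
    (h : ∀ (T : Over S) (y : FibCat.overCat T ⥤ᵇ 𝒟) (t : ↥T.left), ∃ (V : Over S) (k : V ⟶ T),
      Etale k.left ∧ t ∈ Set.range k.left ∧
        K735.Rep.RepOver AlgSp.IsFiniteMor (FibCat.fpFst (BasedFunctor.comp (AlgSt.overMap k) y) G)) :
    AlgSt.RepByAlgSpWith AlgSp.IsFiniteMor G := by
  intro T y
  obtain ⟨F, e, he⟩ := hG T y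
  refine ⟨F, e, he, ?_⟩
  set q := AlgSt.spMapOfOver (BasedFunctor.comp e (FibCat.fpFst y G)) with hq
  have hR : K740.RepBC.RepBy q (FibCat.fpFst y G) := ⟨e, he, rfl⟩
  choose V k h1 h2 h3 using h T y
  refine K617.FinLoc.finite_family (j := fun t => (AlgSp.yon S).map (k t)) (p := fun t => pullback.fst q _)
    (q := fun t => pullback.snd q _) (fun t => (AlgSp.repWith_yon_map_iff _ _).2 (h1 t)) ?_
    (fun t => IsPullback.of_hasPullback _ _) ?_
  · intro x
    obtain ⟨t, rfl⟩ := K609.Points.ofScheme_surjective T x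
    obtain ⟨s, hs⟩ := h2 t
    refine ⟨t, AlgSp.Points.ofScheme _ s, ?_⟩
    exact (K609.Points.map_yon_map_ofScheme _ _).trans (congrArg (AlgSp.Points.ofScheme T) hs)
  · intro t
    have h4 := hR.baseChange (k t) (Iso.refl _) (IsPullback.of_hasPullback q ((AlgSp.yon S).map (k t))).flip
    obtain ⟨F', q', h5, h6⟩ := K740.RepBC.repOver_iff.1 (h3 t)
    obtain ⟨i, hi⟩ := h4.exists_iso h5
    rw [← hi]
    rw [K617.FinLoc.isFiniteMor_iff] at h6 ⊢
    exact (MorphismProperty.cancel_left_of_respectsIso (AlgSp.RepWith @IsFinite) i.hom q').2 h6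

end Finite

end K739.PtLift
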