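import Groth.Agent.AlgSt.K739.Diag
import Groth.Agent.AlgSt.K743.BC

/-!
# Sections and base changes of the diagonal, for every `P`

* `K739.Sect.section_isCart`: for `e : s ⋙ f ≅ 𝟭`, the section `s : 𝒯 ⥤ᵇ 𝒳` is a base change of `diag f`.
* `K739.Sect.repByAlgSpWith_section`: `RepByAlgSpWith P (diag f) → RepByAlgSpWith P s` (every `P`).
* `K739.Sect.repByAlgSpWith_diag_fpFst`: `RepByAlgSpWith P (diag f) → RepByAlgSpWith P (diag (fpFst g f))` (every `P`).
-/

set_option autoImplicit false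
set_option backward.isDefEq.respectTransparency false
set_option backward.isDefEq.respectTransparency.types false

universe w₃ v₃ w₂ v₂ w₁ v₁ w' v' w v u

open CategoryTheory CategoryTheory.Limits AlgebraicGeometry Opposite

namespace K739.Sect

open K739.Psh K739.Rep K739.Isom K739.Diag

section Section

variable {C : Type u} [Category.{v} C] {𝒳 : BasedCategory.{v₁, w₁} C} {𝒯 : BasedCategory.{v₂, w₂} C}
  (f : 𝒳 ⥤ᵇ 𝒯) (s : 𝒯 ⥤ᵇ 𝒳) (e : BasedFunctor.comp s f ≅ BasedFunctor.id 𝒯)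

/-- `x ↦ (x, s f x)`. -/
def sectB : 𝒳 ⥤ᵇ FibCat.fp f f :=
  FibCat.fpLift (BasedFunctor.id 𝒳) (BasedFunctor.comp f s)
    (wl f e.symm : BasedFunctor.comp f (BasedFunctor.id 𝒯) ≅ BasedFunctor.comp f (BasedFunctor.comp s f))

/-- `f s t ≅ t`. -/
def eIso (t : 𝒯.obj) : f.obj (s.obj t) ≅ t where
  hom := e.hom.toNatTrans.app t
  inv := e.inv.toNatTrans.app t
  hom_inv_id := by
    have := congrArg (fun t => t.toNatTrans) e.hom_inv_id
    exact congrArg (fun x => x.app t) this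
  inv_hom_id := by
    have := congrArg (fun t => t.toNatTrans) e.inv_hom_id
    exact congrArg (fun x => x.app t) this

theorem eIso_nat {t t' : 𝒯.obj} (φ : t ⟶ t') :
    f.map (s.map φ) ≫ (eIso f s e t').hom = (eIso f s e t).hom ≫ φ :=
  e.hom.toNatTrans.naturality φ

theorem eIso_self (t : 𝒯.obj) : (eIso f s e (f.obj (s.obj t))).hom = f.map (s.map (eIso f s e t).hom) := by
  have h := eIso_nat f s e (eIso f s e t).hom
  exact ((cancel_mono (eIso f s e t).hom).1 h).symm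

theorem sectE_w (t : 𝒯.obj) :
    f.map (𝟙 (s.obj t)) ≫ 𝟙 (f.obj (s.obj t)) =
      (eIso f s e (f.obj (s.obj t))).inv ≫ f.map (s.map (eIso f s e t).hom) := by
  rw [← eIso_self, Iso.inv_hom_id, CategoryTheory.Functor.map_id, Category.comp_id]

/-- The 2-isomorphism of the section square. -/
def sectE : BasedFunctor.comp s (sectB f s e) ≅ BasedFunctor.comp s (FibCat.diag f) :=
  BasedNatIso.mkNatIso
    (NatIso.ofComponents (fun t => ObjectProperty.isoMk _
      (CategoricalPullback.mkIso (Iso.refl (s.obj t)) (s.mapIso (eIso f s e t)) (sectE_w f s e t)))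
      (fun {t t'} φ => by
        apply ObjectProperty.hom_ext
        apply CategoricalPullback.hom_ext
        · change s.map φ ≫ 𝟙 _ = 𝟙 _ ≫ s.map φ
          simp
        · change s.map (f.map (s.map φ)) ≫ s.map (eIso f s e t').hom =
            s.map (eIso f s e t).hom ≫ s.map φ
          rw [← Functor.map_comp, ← Functor.map_comp, eIso_nat]))
    (fun t => by
      rw [← BasedFunctor.isHomLift_iff (FibCat.fpFst f f)]
      change 𝒳.p.IsHomLift (𝟙 (𝒯.p.obj t)) (𝟙 (s.obj t))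
      infer_instance)

theorem section_isCart : K743.BC.IsCart s (FibCat.diag f) s (sectB f s e) (sectE f s e) where
  full := ⟨by
    intro t t' φ
    let α : s.obj t ⟶ s.obj t' := φ.hom.fst
    let γ : s.obj t ⟶ s.obj t' := φ.hom.snd
    have w := φ.hom.w
    have w1 : α ≫ 𝟙 (s.obj t') = 𝟙 (s.obj t) ≫ γ := congrArg (fun t => t.hom.fst) w
    have w2 : s.map (f.map α) ≫ s.map (eIso f s e t').hom = s.map (eIso f s e t).hom ≫ γ :=
      congrArg (fun t => t.hom.snd) w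
    rw [Category.comp_id, Category.id_comp] at w1
    have w3 : s.map ((eIso f s e t).inv ≫ f.map α ≫ (eIso f s e t').hom) = γ := by
      rw [Functor.map_comp, Functor.map_comp, w2, ← Category.assoc, ← Functor.map_comp, Iso.inv_hom_id,
        CategoryTheory.Functor.map_id, Category.id_comp]
    refine ⟨(eIso f s e t).inv ≫ f.map α ≫ (eIso f s e t').hom, ?_⟩
    apply ObjectProperty.hom_ext
    apply CategoricalPullback.hom_ext
    · exact w3.trans w1.symm
    · exact w3⟩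
  faithful := ⟨by
    intro t t' φ ψ h
    have h1 : s.map φ = s.map ψ := congrArg (fun t => t.hom.fst) h
    have n1 := eIso_nat f s e φ
    have n2 := eIso_nat f s e ψ
    rw [h1, n2] at n1
    exact ((cancel_epi (eIso f s e t).hom).1 n1).symm⟩
  surj := by
    intro ζ
    have hζ := ζ.property
    have hζ2 : 𝒳.p.IsHomLift (𝟙 (𝒳.p.obj ζ.obj.fst)) ((FibCat.fpSnd f f).map ζ.obj.iso.hom) :=
      (BasedFunctor.isHomLift_iff (FibCat.fpSnd f f) _ _).2 hζ
    let μ₁ : ζ.obj.fst ≅ ζ.obj.snd := (FibCat.fpFst f f).mapIso ζ.obj.iso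
    let μ₂ : s.obj (f.obj ζ.obj.fst) ≅ ζ.obj.snd := (FibCat.fpSnd f f).mapIso ζ.obj.iso
    have w : f.map μ₁.hom ≫ 𝟙 (f.obj ζ.obj.snd) =
      (eIso f s e (f.obj ζ.obj.fst)).inv ≫ f.map μ₂.hom := ζ.obj.iso.hom.hom.w
    rw [Category.comp_id] at w
    let ν : s.obj (f.obj ζ.obj.fst) ≅ ζ.obj.fst := μ₂ ≪≫ μ₁.symm
    have hν : f.map ν.hom = (eIso f s e (f.obj ζ.obj.fst)).hom := by
      have h1 : f.map μ₂.hom = (eIso f s e (f.obj ζ.obj.fst)).hom ≫ f.map μ₁.hom := by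
        rw [w, Iso.hom_inv_id_assoc]
      change f.map (μ₂.hom ≫ μ₁.inv) = _
      rw [Functor.map_comp, h1, Category.assoc, ← Functor.map_comp, Iso.hom_inv_id, CategoryTheory.Functor.map_id]
      exact Category.comp_id _
    refine ⟨f.obj ζ.obj.fst, ObjectProperty.isoMk _ (CategoricalPullback.mkIso ν μ₂ ?_), ?_⟩
    · apply ObjectProperty.hom_ext
      apply CategoricalPullback.hom_ext
      · change (μ₂.hom ≫ μ₁.inv) ≫ μ₁.hom = 𝟙 _ ≫ μ₂.hom
        simp
      · change s.map (f.map ν.hom) ≫ μ₂.hom = s.map (eIso f s e (f.obj ζ.obj.fst)).hom ≫ μ₂.hom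
        rw [hν]
    · rw [← BasedFunctor.isHomLift_iff (FibCat.fpSnd (sectB f s e) (FibCat.diag f))]
      have h3 : (FibCat.fp (sectB f s e) (FibCat.diag f)).p.obj ζ = 𝒳.p.obj ζ.obj.fst := rfl
      rw [h3]
      exact hζ2

end Section

section Sp

variable {S : Scheme.{u}}

/-- A section of `f` is representable with `P` as soon as the diagonal of `f` is (every `P`). -/
theorem repByAlgSpWith_section {𝒳 : BasedCategory.{v₁, w₁} (Over S)} {𝒯 : BasedCategory.{v₂, w₂} (Over S)}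
    {P : MorphismProperty (AlgSp.Sp S)} (f : 𝒳 ⥤ᵇ 𝒯) (s : 𝒯 ⥤ᵇ 𝒳)
    (e : BasedFunctor.comp s f ≅ BasedFunctor.id 𝒯) (h : AlgSt.RepByAlgSpWith P (FibCat.diag f)) :
    AlgSt.RepByAlgSpWith P s :=
  (section_isCart f s e).repByAlgSpWith h

/-- The diagonal of a base change (every `P`). -/
theorem repByAlgSpWith_diag_fpFst {𝒳 : BasedCategory.{u, w} (Over S)} {𝒴 : BasedCategory.{v', w'} (Over S)}
    {𝒲 : BasedCategory.{u, w₁} (Over S)} {P : MorphismProperty (AlgSp.Sp S)} (g : 𝒲 ⥤ᵇ 𝒴) (f : 𝒳 ⥤ᵇ 𝒴)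
    (h𝒳 : FibCat.IsFibGrpd 𝒳.p) (h𝒴 : FibCat.IsFibGrpd 𝒴.p) (h𝒲 : FibCat.IsFibGrpd 𝒲.p)
    (h𝒱 : FibCat.IsFibGrpd (FibCat.fp g f).p) (h : AlgSt.RepByAlgSpWith P (FibCat.diag f)) :
    AlgSt.RepByAlgSpWith P (FibCat.diag (FibCat.fpFst g f)) := by
  rw [repByAlgSpWith_diag_iff P _ h𝒱 h𝒲]
  rw [repByAlgSpWith_diag_iff P _ h𝒳 h𝒴] at h
  intro U z₁ z₂ θ
  refine (h U _ _ (bcIso g f z₁ z₂ θ)).of_iso (bcPshIso g f z₁ z₂ θ h𝒳 h𝒴 h𝒲 h𝒱).symm ?_
  rw [← bcPshIso_toBase g f z₁ z₂ θ h𝒳 h𝒴 h𝒲 h𝒱, Iso.symm_hom, Iso.inv_hom_id_assoc]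

end Sp

end K739.Sect
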