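import Groth.Agent.AlgSt.K739.Props
import Groth.Agent.AlgSt.K739.Sect
import Groth.Agent.AlgSt.K735.Fp

/-!
# Diagonals of morphisms of algebraic stacks

* `K739.Alg.repByAlgSp1_diag`: the diagonal of a morphism of algebraic stacks is representable by algebraic spaces.
* composition and cancellation rows for DM, quasi-DM, separated, quasi-separated morphisms.
-/

set_option autoImplicit false
set_option linter.unusedVariables false
set_option backward.isDefEq.respectTransparency false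
set_option backward.isDefEq.respectTransparency.types false

universe w₃ v₃ w₂ v₂ w₁ v₁ w' v' w v u

open CategoryTheory CategoryTheory.Limits AlgebraicGeometry Opposite

namespace K739.Alg

open K739.Psh K739.Rep K739.Isom K739.Diag K739.DiagComp K739.Props

section Self

variable {C : Type u} [Category.{v} C] {𝒳 : BasedCategory.{v₁, w₁} C}

/-- Two functors to `C` over itself are isomorphic. -/
def selfIso (Φ Ψ : 𝒳 ⥤ᵇ FibCat.selfOver C) : Φ ≅ Ψ :=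
  BasedNatIso.mkNatIso (NatIso.ofComponents (fun a => eqToIso ((Φ.w_obj a).trans (Ψ.w_obj a).symm))
    (fun {a b} m => by
      have e1 : Φ.map m = eqToHom (Φ.w_obj a) ≫ 𝒳.p.map m ≫ eqToHom (Φ.w_obj b).symm :=
        IsHomLift.fac' (FibCat.selfOver C).p (𝒳.p.map m) (Φ.map m)
      have e2 : Ψ.map m = eqToHom (Ψ.w_obj a) ≫ 𝒳.p.map m ≫ eqToHom (Ψ.w_obj b).symm :=
        IsHomLift.fac' (FibCat.selfOver C).p (𝒳.p.map m) (Ψ.map m)
      change Φ.map m ≫ eqToHom ((Φ.w_obj b).trans (Ψ.w_obj b).symm) =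
        eqToHom ((Φ.w_obj a).trans (Ψ.w_obj a).symm) ≫ Ψ.map m
      rw [e1, e2]
      simp)) (fun a => by
    refine IsHomLift.of_fac' _ _ _ (Φ.w_obj a) (Ψ.w_obj a) ?_
    change eqToHom ((Φ.w_obj a).trans (Ψ.w_obj a).symm) = _
    simp)

end Self

section Top

variable {S : Scheme.{u}}

theorem bc_top : BC (⊤ : MorphismProperty (AlgSp.Sp S)) := fun _ _ _ _ _ _ _ _ _ _ _ _ _ _ => trivial

theorem comp_top : Comp (⊤ : MorphismProperty (AlgSp.Sp S)) := fun _ _ _ _ _ _ _ _ _ _ => trivial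

theorem etDesc_top : EtDesc (⊤ : MorphismProperty (AlgSp.Sp S)) := fun _ _ _ _ _ _ _ _ _ _ _ _ _ _ _ => trivial

theorem cancel_top (P Q : MorphismProperty (AlgSp.Sp S)) : Cancel P Q ⊤ := fun _ _ _ _ _ _ _ _ _ _ => trivial

theorem isoInv_top : IsoInv (⊤ : MorphismProperty (AlgSp.Sp S)) := isoInv_of_baseChange _ bc_top

theorem repByAlgSpWith_top {𝒳 : BasedCategory.{v, w} (Over S)} {𝒴 : BasedCategory.{v', w'} (Over S)} {f : 𝒳 ⥤ᵇ 𝒴}
    (h : AlgSt.RepByAlgSp1 f) : AlgSt.RepByAlgSpWith ⊤ f := fun U y => by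
  obtain ⟨F, e, he⟩ := h U y
  exact ⟨F, e, he, trivial⟩

theorem repByAlgSp1_of {P : MorphismProperty (AlgSp.Sp S)} {𝒳 : BasedCategory.{v, w} (Over S)}
    {𝒴 : BasedCategory.{v', w'} (Over S)} {f : 𝒳 ⥤ᵇ 𝒴}
    (h : AlgSt.RepByAlgSpWith P f) : AlgSt.RepByAlgSp1 f := fun U y => by
  obtain ⟨F, e, he, -⟩ := h U y
  exact ⟨F, e, he⟩

theorem repByAlgSpWith_mono {P Q : MorphismProperty (AlgSp.Sp S)} (hPQ : P ≤ Q) {𝒳 : BasedCategory.{v, w} (Over S)}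
    {𝒴 : BasedCategory.{v', w'} (Over S)} {f : 𝒳 ⥤ᵇ 𝒴}
    (h : AlgSt.RepByAlgSpWith P f) : AlgSt.RepByAlgSpWith Q f := fun U y => by
  obtain ⟨F, e, he, hP⟩ := h U y
  exact ⟨F, e, he, hPQ _ hP⟩

end Top

section AlgStacks

variable {S : Scheme.{u}} {𝒳 : BasedCategory.{u, w} (Over S)} {𝒴 : BasedCategory.{u, w'} (Over S)}
  {𝒵 : BasedCategory.{v₁, w₁} (Over S)}

/-- The diagonal of `f : 𝒳 ⟶ 𝒴` over `S` has `P` if the absolute diagonal of `𝒳` has `P₀`, the absolute diagonal of `𝒴`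
has `Q`, and cancellation holds. -/
theorem repByAlgSpWith_diag_of_toSelf {P Q R : MorphismProperty (AlgSp.Sp S)} (hP : IsoInv P) (hQ : IsoInv Q)
    (hRb : BC R) (hR : Cancel P Q R) (h𝒳 : FibCat.IsFibGrpd 𝒳.p) (h𝒴 : FibCat.IsFibGrpd 𝒴.p) (f : 𝒳 ⥤ᵇ 𝒴)
    (h1 : AlgSt.RepByAlgSpWith P (FibCat.diag (FibCat.toSelf 𝒳)))
    (h2 : AlgSt.RepByAlgSpWith Q (FibCat.diag (FibCat.toSelf 𝒴))) : AlgSt.RepByAlgSpWith R (FibCat.diag f) := by
  have h3 : AlgSt.RepByAlgSpWith P (FibCat.diag (BasedFunctor.comp f (FibCat.toSelf 𝒴))) :=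
    repByAlgSpWith_diag_congr (selfIso (BasedFunctor.comp f (FibCat.toSelf 𝒴)) (FibCat.toSelf 𝒳)) h𝒳
      K735.Fp.isFibGrpd_selfOver h1
  exact repByAlgSpWith_diag_of_comp f (FibCat.toSelf 𝒴) h𝒳 h𝒴 K735.Fp.isFibGrpd_selfOver hP hQ hRb hR h3 h2

/-- The diagonal of a morphism of categories fibred in groupoids whose absolute diagonals are representable. -/
theorem repByAlgSp1_diag (h𝒳 : FibCat.IsFibGrpd 𝒳.p) (h𝒴 : FibCat.IsFibGrpd 𝒴.p) (f : 𝒳 ⥤ᵇ 𝒴)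
    (h1 : AlgSt.RepByAlgSp1 (FibCat.diag (FibCat.toSelf 𝒳)))
    (h2 : AlgSt.RepByAlgSp1 (FibCat.diag (FibCat.toSelf 𝒴))) : AlgSt.RepByAlgSp1 (FibCat.diag f) :=
  repByAlgSp1_of (repByAlgSpWith_diag_of_toSelf (P := ⊤) (Q := ⊤) (R := ⊤) isoInv_top isoInv_top bc_top
    (cancel_top _ _) h𝒳 h𝒴 f (repByAlgSpWith_top h1) (repByAlgSpWith_top h2))

/-- The diagonal of a morphism of algebraic stacks is representable by algebraic spaces. -/
theorem repByAlgSp1_diag_of_isAlgStack {K : Precoverage Scheme.{u}} (h𝒳 : AlgSt.IsAlgStack K 𝒳)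
    (h𝒴 : AlgSt.IsAlgStack K 𝒴) (f : 𝒳 ⥤ᵇ 𝒴) : AlgSt.RepByAlgSp1 (FibCat.diag f) :=
  repByAlgSp1_diag h𝒳.isStack.1 h𝒴.isStack.1 f h𝒳.diag h𝒴.diag

end AlgStacks

end K739.Alg
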