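import Groth.Agent.AlgSt.K739.Isom

/-!
# Diagonals: elementwise criterion, base change, pullback squares

* `K739.Diag.repByAlgSpWith_diag_iff`: `RepByAlgSpWith P (diag f)` iff all `Isom_f(x₁, x₂; φ) ⟶ h_U` are algebraic spaces with `P`
  (every `P`).
* `K739.Diag.repByAlgSpWith_diag_fpFst`: diagonal of a base change (every `P`).
* `K739.Diag.isPullback_restrict`: `Isom_f(k^* x₁, k^* x₂; k^* φ) = Isom_f(x₁, x₂; φ) ×_{h_U} h_V`.
* `K739.Diag.isPullback_comp`: `Isom_f(k^* x₁, k^* x₂; φ) = Isom_{f ⋙ g}(x₁, x₂; θ) ×_{Isom_g(f x₁, f x₂; θ)} h_V`.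
-/

set_option autoImplicit false
set_option backward.isDefEq.respectTransparency false
set_option backward.isDefEq.respectTransparency.types false

universe w₄ v₄ w₃ v₃ w₂ v₂ w₁ v₁ w' v' w v u

open CategoryTheory CategoryTheory.Limits AlgebraicGeometry Opposite

namespace K739.Diag

open K739.Psh K739.Rep K739.Isom

section Main

variable {S : Scheme.{u}} {𝒳 : BasedCategory.{u, w} (Over S)} {𝒴 : BasedCategory.{v', w'} (Over S)}

/-- Elementwise criterion for base changes of the diagonal (every `P`). -/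
theorem repByAlgSpWith_diag_iff (P : MorphismProperty (AlgSp.Sp S)) (f : 𝒳 ⥤ᵇ 𝒴) (h𝒳 : FibCat.IsFibGrpd 𝒳.p)
    (h𝒴 : FibCat.IsFibGrpd 𝒴.p) :
    AlgSt.RepByAlgSpWith P (FibCat.diag f) ↔ ∀ (U : Over S) (x₁ x₂ : FibCat.overCat U ⥤ᵇ 𝒳)
      (φ : BasedFunctor.comp x₁ f ≅ BasedFunctor.comp x₂ f), RepPsh P (toBase f x₁ x₂ φ h𝒳 h𝒴) := by
  rw [repByAlgSpWith_iff]
  constructor
  · intro h U x₁ x₂ φ
    rw [← prMap_toFp, ← repAt_iff_repPsh _ _ (isEquivOver_toFp f x₁ x₂ φ h𝒳 h𝒴)]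
    exact h U (FibCat.fpLift x₁ x₂ φ)
  · intro h U y
    rw [y_eq f y, repAt_iff_repPsh _ _ (isEquivOver_toFp f _ _ _ h𝒳 h𝒴), prMap_toFp]
    exact h U _ _ _

end Main

section PB

variable {S : Scheme.{u}}

/-- Elementwise criterion for pullback squares of presheaves. -/
theorem isPullback_psh {A B C D : AlgSp.PSp S} (t : A ⟶ B) (l : A ⟶ C) (r : B ⟶ D) (b : C ⟶ D)
    (hw : ∀ (T : Over S) (a : A.obj (op T)), r.app (op T) (t.app (op T) a) = b.app (op T) (l.app (op T) a))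
    (hinj : ∀ (T : Over S) (a a' : A.obj (op T)), t.app (op T) a = t.app (op T) a' →
      l.app (op T) a = l.app (op T) a' → a = a')
    (hsurj : ∀ (T : Over S) (x : B.obj (op T)) (y : C.obj (op T)), r.app (op T) x = b.app (op T) y →
      ∃ a : A.obj (op T), t.app (op T) a = x ∧ l.app (op T) a = y) :
    IsPullback t l r b := by
  apply IsPullback.of_forall_isPullback_app
  intro T
  rw [Types.isPullback_iff]
  refine ⟨?_, fun a a' h => hinj T.unop a a' h.1 h.2, fun x y h => hsurj T.unop x y h⟩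
  ext a
  exact hw T.unop a

end PB

section Hom

variable {S : Scheme.{u}} {𝒳 : BasedCategory.{u, w} (Over S)} {𝒴 : BasedCategory.{v', w'} (Over S)}
  {f : 𝒳 ⥤ᵇ 𝒴} {U : Over S} {x₁ x₂ : FibCat.overCat U ⥤ᵇ 𝒳}
  {φ : BasedFunctor.comp x₁ f ≅ BasedFunctor.comp x₂ f}
  {𝒳' : BasedCategory.{u, w₁} (Over S)} {𝒴' : BasedCategory.{v₂, w₂} (Over S)}
  {f' : 𝒳' ⥤ᵇ 𝒴'} {U' : Over S} {x₁' x₂' : FibCat.overCat U' ⥤ᵇ 𝒳'}
  {φ' : BasedFunctor.comp x₁' f' ≅ BasedFunctor.comp x₂' f'}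
  (h𝒳 : FibCat.IsFibGrpd 𝒳.p) (h𝒴 : FibCat.IsFibGrpd 𝒴.p)
  (h𝒳' : FibCat.IsFibGrpd 𝒳'.p) (h𝒴' : FibCat.IsFibGrpd 𝒴'.p)

theorem sec_ext {T : Over S} {u : T ⟶ U} {ψ ψ' : x₁.obj (pt u) ⟶ x₂.obj (pt u)} {l l' c c'} (h : ψ = ψ') :
    (⟨u, ψ, l, c⟩ : Sec f x₁ x₂ φ T) = ⟨u, ψ', l', c'⟩ := by
  subst h
  rfl

/-- A morphism of Isom presheaves from maps on sections preserving restrictions. -/
noncomputable def homOf (F : ∀ ⦃T : Over S⦄, Sec f x₁ x₂ φ T → Sec f' x₁' x₂' φ' T)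
    (hF : ∀ ⦃T T' : Over S⦄ (t : T' ⟶ T) (s : Sec f x₁ x₂ φ T) (s' : Sec f x₁ x₂ φ T'), IsRes t s s' →
      IsRes t (F s) (F s')) :
    psh f x₁ x₂ φ h𝒳 h𝒴 ⟶ psh f' x₁' x₂' φ' h𝒳' h𝒴' where
  app T := ↾fun s => F (T := T.unop) s
  naturality T T' t := by
    ext s
    exact ((map_eq_iff h𝒳' h𝒴' t.unop _ _).2 (hF t.unop _ _ ((map_eq_iff h𝒳 h𝒴 t.unop s _).1 rfl))).symm

/-- An isomorphism of Isom presheaves from bijections on sections preserving restrictions. -/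
noncomputable def isoOf (e : ∀ T : Over S, Sec f x₁ x₂ φ T ≃ Sec f' x₁' x₂' φ' T)
    (he : ∀ ⦃T T' : Over S⦄ (t : T' ⟶ T) (s : Sec f x₁ x₂ φ T) (s' : Sec f x₁ x₂ φ T'), IsRes t s s' →
      IsRes t (e T s) (e T' s')) :
    psh f x₁ x₂ φ h𝒳 h𝒴 ≅ psh f' x₁' x₂' φ' h𝒳' h𝒴' :=
  NatIso.ofComponents (fun T => (e T.unop).toIso) (fun {T T'} t => by
    ext s
    exact ((map_eq_iff h𝒳' h𝒴' t.unop _ _).2 (he t.unop _ _ ((map_eq_iff h𝒳 h𝒴 t.unop s _).1 rfl))).symm)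

end Hom

section BaseChange

variable {S : Scheme.{u}} {𝒳 : BasedCategory.{u, w} (Over S)} {𝒴 : BasedCategory.{v', w'} (Over S)}
  {𝒲 : BasedCategory.{u, w₁} (Over S)}
  (g : 𝒲 ⥤ᵇ 𝒴) (f : 𝒳 ⥤ᵇ 𝒴) {U : Over S} (z₁ z₂ : FibCat.overCat U ⥤ᵇ FibCat.fp g f)
  (θ : BasedFunctor.comp z₁ (FibCat.fpFst g f) ≅ BasedFunctor.comp z₂ (FibCat.fpFst g f))

/-- The 2-isomorphism induced on the second components. -/
def bcIso : BasedFunctor.comp (BasedFunctor.comp z₁ (FibCat.fpSnd g f)) f ≅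
    BasedFunctor.comp (BasedFunctor.comp z₂ (FibCat.fpSnd g f)) f :=
  (wl z₁ (FibCat.fpIso g f)).symm ≪≫
    (wr θ g : BasedFunctor.comp z₁ (BasedFunctor.comp (FibCat.fpFst g f) g) ≅
      BasedFunctor.comp z₂ (BasedFunctor.comp (FibCat.fpFst g f) g)) ≪≫ wl z₂ (FibCat.fpIso g f)

theorem bcIso_app (a : (FibCat.overCat U).obj) : (bcIso g f z₁ z₂ θ).hom.toNatTrans.app a =
    (z₁.obj a).obj.iso.inv ≫ g.map (θ.hom.toNatTrans.app a) ≫ (z₂.obj a).obj.iso.hom := rfl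

variable (h𝒳 : FibCat.IsFibGrpd 𝒳.p) (h𝒴 : FibCat.IsFibGrpd 𝒴.p) (h𝒲 : FibCat.IsFibGrpd 𝒲.p)
  (h𝒱 : FibCat.IsFibGrpd (FibCat.fp g f).p)

/-- Sections for the base change are sections for the original functor. -/
def bcEquiv (T : Over S) : Sec (FibCat.fpFst g f) z₁ z₂ θ T ≃
    Sec f (BasedFunctor.comp z₁ (FibCat.fpSnd g f)) (BasedFunctor.comp z₂ (FibCat.fpSnd g f))
      (bcIso g f z₁ z₂ θ) T where
  toFun s :=
    { u := s.u
      ψ := s.ψ.hom.snd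
      lift := by
        have := s.lift
        exact BasedFunctor.preserves_isHomLift (FibCat.fpSnd g f) (𝟙 T) s.ψ
      comp := by
        have h1 : g.map s.ψ.hom.fst ≫ (z₂.obj (pt s.u)).obj.iso.hom =
          (z₁.obj (pt s.u)).obj.iso.hom ≫ f.map s.ψ.hom.snd := s.ψ.hom.w
        have h2 : s.ψ.hom.fst = θ.hom.toNatTrans.app (pt s.u) := s.comp
        rw [bcIso_app, Iso.eq_inv_comp, ← h1, h2] }
  invFun s :=
    { u := s.u
      ψ := ObjectProperty.homMk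
        { fst := θ.hom.toNatTrans.app (pt s.u)
          snd := s.ψ
          w := by
            have h1 := s.comp
            rw [bcIso_app, Iso.eq_inv_comp] at h1
            exact h1.symm }
      lift := by
        rw [← BasedFunctor.isHomLift_iff (FibCat.fpFst g f)]
        exact θ.hom.isHomLift' (pt s.u)
      comp := rfl }
  left_inv s := by
    obtain ⟨u, ψ, hl, hc⟩ := s
    have : θ.hom.toNatTrans.app (pt u) = ψ.hom.fst := hc.symm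
    refine sec_ext ?_
    apply ObjectProperty.hom_ext; apply CategoricalPullback.hom_ext
    · exact this
    · rfl
  right_inv s := rfl

/-- The Isom presheaves of a base change. -/
noncomputable def bcPshIso : psh (FibCat.fpFst g f) z₁ z₂ θ h𝒱 h𝒲 ≅
    psh f (BasedFunctor.comp z₁ (FibCat.fpSnd g f)) (BasedFunctor.comp z₂ (FibCat.fpSnd g f))
      (bcIso g f z₁ z₂ θ) h𝒳 h𝒴 :=
  isoOf _ _ _ _ (bcEquiv g f z₁ z₂ θ) (fun T T' t s s' h => by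
    obtain ⟨h1, h2⟩ := h
    exact ⟨h1, congrArg (fun m => m.hom.snd) h2⟩)

theorem bcPshIso_toBase : (bcPshIso g f z₁ z₂ θ h𝒳 h𝒴 h𝒲 h𝒱).hom ≫ toBase f _ _ _ h𝒳 h𝒴 =
    toBase (FibCat.fpFst g f) z₁ z₂ θ h𝒱 h𝒲 := by
  ext T s
  rfl

end BaseChange

section Restrict

variable {S : Scheme.{u}} {𝒳 : BasedCategory.{u, w} (Over S)} {𝒴 : BasedCategory.{v', w'} (Over S)}
  (f : 𝒳 ⥤ᵇ 𝒴) {U V : Over S} (k : V ⟶ U) (x₁ x₂ : FibCat.overCat U ⥤ᵇ 𝒳)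
  (φ : BasedFunctor.comp x₁ f ≅ BasedFunctor.comp x₂ f)

/-- The restriction of `φ` along `k`. -/
abbrev resIso : BasedFunctor.comp (BasedFunctor.comp (AlgSt.overMap k) x₁) f ≅
    BasedFunctor.comp (BasedFunctor.comp (AlgSt.overMap k) x₂) f :=
  wl (AlgSt.overMap k) φ

/-- Sections of the restriction, as sections of the original. -/
def resSec {T : Over S} (s : Sec f (BasedFunctor.comp (AlgSt.overMap k) x₁) (BasedFunctor.comp (AlgSt.overMap k) x₂)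
    (resIso f k x₁ x₂ φ) T) : Sec f x₁ x₂ φ T where
  u := s.u ≫ k
  ψ := s.ψ
  lift := s.lift
  comp := s.comp

variable (h𝒳 : FibCat.IsFibGrpd 𝒳.p) (h𝒴 : FibCat.IsFibGrpd 𝒴.p)

/-- The map `Isom_f(k^* x₁, k^* x₂; k^* φ) ⟶ Isom_f(x₁, x₂; φ)`. -/
noncomputable def resMap : psh f (BasedFunctor.comp (AlgSt.overMap k) x₁) (BasedFunctor.comp (AlgSt.overMap k) x₂)
    (resIso f k x₁ x₂ φ) h𝒳 h𝒴 ⟶ psh f x₁ x₂ φ h𝒳 h𝒴 :=
  homOf _ _ _ _ (fun T s => resSec f k x₁ x₂ φ s) (fun T T' t s s' h => by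
    obtain ⟨h1, h2⟩ := h
    refine ⟨?_, h2⟩
    change t ≫ s.u ≫ k = s'.u ≫ k
    rw [← h1, Category.assoc])

theorem isPullback_restrict : IsPullback (resMap f k x₁ x₂ φ h𝒳 h𝒴)
    (toBase f (BasedFunctor.comp (AlgSt.overMap k) x₁) (BasedFunctor.comp (AlgSt.overMap k) x₂)
      (resIso f k x₁ x₂ φ) h𝒳 h𝒴)
    (toBase f x₁ x₂ φ h𝒳 h𝒴) ((AlgSp.pyon S).map k) := by
  apply isPullback_psh
  · intro T s
    rfl
  · intro T s s' h1 h2
    obtain ⟨v, ψ, hl, hc⟩ := s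
    obtain ⟨v', ψ', hl', hc'⟩ := s'
    obtain rfl : v = v' := congrArg ULift.down h2
    have h3 : (⟨v ≫ k, ψ, hl, hc⟩ : Sec f x₁ x₂ φ T) = ⟨v ≫ k, ψ', hl', hc'⟩ := h1
    refine sec_ext ?_
    injection h3
  · rintro T ⟨u, ψ, hl, hc⟩ ⟨v⟩ h
    obtain rfl : u = v ≫ k := congrArg ULift.down h
    exact ⟨(⟨v, ψ, hl, hc⟩ : Sec f (BasedFunctor.comp (AlgSt.overMap k) x₁)
      (BasedFunctor.comp (AlgSt.overMap k) x₂) (resIso f k x₁ x₂ φ) T), rfl, rfl⟩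

end Restrict

section Points

variable {S : Scheme.{u}} {𝒴 : BasedCategory.{u, w'} (Over S)} {𝒵 : BasedCategory.{v₁, w₁} (Over S)}
  {g : 𝒴 ⥤ᵇ 𝒵} {U : Over S} {y₁ y₂ : FibCat.overCat U ⥤ᵇ 𝒴}
  {θ : BasedFunctor.comp y₁ g ≅ BasedFunctor.comp y₂ g}

/-- The isomorphism of a section, read over a morphism equal to `s.u`. -/
def secAt {T : Over S} (s : Sec g y₁ y₂ θ T) {u : T ⟶ U} (h : s.u = u) : y₁.obj (pt u) ⟶ y₂.obj (pt u) :=
  h ▸ s.ψ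

theorem secAt_lift {T : Over S} (s : Sec g y₁ y₂ θ T) {u : T ⟶ U} (h : s.u = u) :
    𝒴.p.IsHomLift (𝟙 T) (secAt s h) := by
  subst h
  exact s.lift

theorem secAt_comp {T : Over S} (s : Sec g y₁ y₂ θ T) {u : T ⟶ U} (h : s.u = u) :
    g.map (secAt s h) = θ.hom.toNatTrans.app (pt u) := by
  subst h
  exact s.comp

theorem mk_secAt {T : Over S} (s : Sec g y₁ y₂ θ T) {u : T ⟶ U} (h : s.u = u) {l c} :
    (⟨u, secAt s h, l, c⟩ : Sec g y₁ y₂ θ T) = s := by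
  subst h
  rfl

theorem IsRes.secAt {T T' : Over S} {t : T' ⟶ T} {s : Sec g y₁ y₂ θ T} {s' : Sec g y₁ y₂ θ T'} (hr : IsRes t s s')
    {u : T ⟶ U} (h : s.u = u) {u' : T' ⟶ U} (h' : s'.u = u') (ht : t ≫ u = u') :
    y₁.map (arr t ht) ≫ secAt s h = secAt s' h' ≫ y₂.map (arr t ht) := by
  subst h
  subst h'
  exact hr.2

/-- Every `V`-point of an Isom presheaf comes from `k : V ⟶ U` and a 2-isomorphism `k^* y₁ ≅ k^* y₂`. -/
theorem exists_of_pt (h𝒴 : FibCat.IsFibGrpd 𝒴.p) (h𝒵 : FibCat.IsFibGrpd 𝒵.p) {V : Over S}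
    (ξ : (AlgSp.pyon S).obj V ⟶ psh g y₁ y₂ θ h𝒴 h𝒵) :
    ∃ (k : V ⟶ U) (φ : BasedFunctor.comp (AlgSt.overMap k) y₁ ≅ BasedFunctor.comp (AlgSt.overMap k) y₂)
      (hφ : ∀ a : (FibCat.overCat V).obj, g.map (φ.hom.toNatTrans.app a) =
        θ.hom.toNatTrans.app ((AlgSt.overMap k).obj a)),
      ∀ (T : Over S) (v : T ⟶ V), ξ.app (op T) ⟨v⟩ =
        (⟨v ≫ k, φ.hom.toNatTrans.app (pt v), φ.hom.isHomLift' (pt v), hφ (pt v)⟩ : Sec g y₁ y₂ θ T) := by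
  let s : ∀ {T : Over S} (v : T ⟶ V), Sec g y₁ y₂ θ T := fun {T} v => ξ.app (op T) ⟨v⟩
  have hs : ∀ {T T' : Over S} (t : T' ⟶ T) (v : T ⟶ V), IsRes t (s v) (s (t ≫ v)) := fun {T T'} t v =>
    (map_eq_iff h𝒴 h𝒵 t (s v) (s (t ≫ v))).1
      (NatTrans.naturality_apply ξ t.op (⟨v⟩ : ((AlgSp.pyon S).obj V).obj (op T))).symm
  let k : V ⟶ U := (s (𝟙 V)).u
  have hk : ∀ {T : Over S} (v : T ⟶ V), (s v).u = v ≫ k := fun {T} v => by
    have h1 := (hs v (𝟙 V)).1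
    rw [Category.comp_id] at h1
    exact h1.symm
  have hI : ∀ {T : Over S} (v : T ⟶ V), IsIso (secAt (s v) (hk v)) := fun {T} v => by
    have := secAt_lift (s v) (hk v)
    exact isIso_of_id h𝒴 (R := T) _
  let φ : BasedFunctor.comp (AlgSt.overMap k) y₁ ≅ BasedFunctor.comp (AlgSt.overMap k) y₂ :=
    BasedNatIso.mkNatIso (NatIso.ofComponents (fun a => @asIso _ _ _ _ (secAt (s a.hom) (hk a.hom)) (hI a.hom))
      (fun {a b} m => by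
        have h1 : m.left ≫ b.hom = a.hom := Over.w m
        have h2 : IsRes m.left (s b.hom) (s a.hom) := by
          have := hs m.left b.hom
          rw [h1] at this
          exact this
        exact IsRes.secAt h2 (hk b.hom) (hk a.hom) (by rw [← h1, Category.assoc])))
      (fun a => secAt_lift (s a.hom) (hk a.hom))
  refine ⟨k, φ, fun a => secAt_comp (s a.hom) (hk a.hom), fun T v => ?_⟩
  exact (mk_secAt (s v) (hk v)).symm

end Points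

section Comp

variable {S : Scheme.{u}} {𝒳 : BasedCategory.{u, w} (Over S)} {𝒴 : BasedCategory.{u, w'} (Over S)}
  {𝒵 : BasedCategory.{v₁, w₁} (Over S)}
  (f : 𝒳 ⥤ᵇ 𝒴) (g : 𝒴 ⥤ᵇ 𝒵) {U V : Over S} (k : V ⟶ U) (x₁ x₂ : FibCat.overCat U ⥤ᵇ 𝒳)
  (θ : BasedFunctor.comp x₁ (BasedFunctor.comp f g) ≅ BasedFunctor.comp x₂ (BasedFunctor.comp f g))

/-- `θ` as a 2-isomorphism `(x₁ ⋙ f) ⋙ g ≅ (x₂ ⋙ f) ⋙ g`. -/
abbrev assocIso : BasedFunctor.comp (BasedFunctor.comp x₁ f) g ≅ BasedFunctor.comp (BasedFunctor.comp x₂ f) g := θ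

variable (h𝒳 : FibCat.IsFibGrpd 𝒳.p) (h𝒴 : FibCat.IsFibGrpd 𝒴.p) (h𝒵 : FibCat.IsFibGrpd 𝒵.p)

/-- The map `Isom_{f ⋙ g}(x₁, x₂; θ) ⟶ Isom_g(f x₁, f x₂; θ)`. -/
noncomputable def compMap : psh (BasedFunctor.comp f g) x₁ x₂ θ h𝒳 h𝒵 ⟶
    psh g (BasedFunctor.comp x₁ f) (BasedFunctor.comp x₂ f) (assocIso f g x₁ x₂ θ) h𝒴 h𝒵 :=
  homOf _ _ _ _ (fun T s =>
    { u := s.u
      ψ := f.map s.ψ
      lift := by
        have := s.lift
        exact BasedFunctor.preserves_isHomLift f (𝟙 T) s.ψ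
      comp := s.comp }) (fun T T' t s s' h => by
    obtain ⟨h1, h2⟩ := h
    refine ⟨h1, ?_⟩
    change f.map (x₁.map (arr t h1)) ≫ f.map s.ψ = f.map s'.ψ ≫ f.map (x₂.map (arr t h1))
    rw [← f.map_comp, h2, f.map_comp])

theorem compMap_toBase : compMap f g x₁ x₂ θ h𝒳 h𝒴 h𝒵 ≫ toBase g _ _ _ h𝒴 h𝒵 = toBase _ x₁ x₂ θ h𝒳 h𝒵 := by
  ext T s
  rfl

variable (φ : BasedFunctor.comp (BasedFunctor.comp (AlgSt.overMap k) x₁) f ≅
  BasedFunctor.comp (BasedFunctor.comp (AlgSt.overMap k) x₂) f)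
  (hφ : ∀ a : (FibCat.overCat V).obj, g.map (φ.hom.toNatTrans.app a) =
    θ.hom.toNatTrans.app ((AlgSt.overMap k).obj a))

/-- The map `Isom_f(k^* x₁, k^* x₂; φ) ⟶ Isom_{f ⋙ g}(x₁, x₂; θ)` for `φ` with `g φ = k^* θ`. -/
noncomputable def liftMap : psh f (BasedFunctor.comp (AlgSt.overMap k) x₁) (BasedFunctor.comp (AlgSt.overMap k) x₂)
    φ h𝒳 h𝒴 ⟶ psh (BasedFunctor.comp f g) x₁ x₂ θ h𝒳 h𝒵 :=
  homOf _ _ _ _ (fun T s =>
    { u := s.u ≫ k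
      ψ := s.ψ
      lift := s.lift
      comp := by
        change g.map (f.map s.ψ) = _
        have h1 : f.map s.ψ = φ.hom.toNatTrans.app (pt s.u) := s.comp
        rw [h1, hφ]
        rfl }) (fun T T' t s s' h => by
    obtain ⟨h1, h2⟩ := h
    refine ⟨?_, h2⟩
    change t ≫ s.u ≫ k = s'.u ≫ k
    rw [← h1, Category.assoc])

/-- The `V`-point of `Isom_g(f x₁, f x₂; θ)` given by `k : V ⟶ U` and `φ`. -/
noncomputable def ptMap : (AlgSp.pyon S).obj V ⟶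
    psh g (BasedFunctor.comp x₁ f) (BasedFunctor.comp x₂ f) (assocIso f g x₁ x₂ θ) h𝒴 h𝒵 where
  app T := ↾fun v =>
    { u := v.down ≫ k
      ψ := φ.hom.toNatTrans.app (pt v.down)
      lift := φ.hom.isHomLift' (pt v.down)
      comp := hφ (pt v.down) }
  naturality T T' t := by
    ext v
    refine ((map_eq_iff h𝒴 h𝒵 t.unop _ _).2 ⟨(Category.assoc _ _ _).symm, ?_⟩).symm
    exact φ.hom.toNatTrans.naturality (arr t.unop rfl : pt (t.unop ≫ v.down) ⟶ pt v.down)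

theorem isPullback_comp : IsPullback (liftMap f g k x₁ x₂ θ h𝒳 h𝒴 h𝒵 φ hφ)
    (toBase f (BasedFunctor.comp (AlgSt.overMap k) x₁) (BasedFunctor.comp (AlgSt.overMap k) x₂) φ h𝒳 h𝒴)
    (compMap f g x₁ x₂ θ h𝒳 h𝒴 h𝒵) (ptMap f g k x₁ x₂ θ h𝒴 h𝒵 φ hφ) := by
  apply isPullback_psh
  · intro T s
    exact sec_ext s.comp
  · intro T s s' h1 h2
    obtain ⟨v, ψ, hl, hc⟩ := s
    obtain ⟨v', ψ', hl', hc'⟩ := s'
    obtain rfl : v = v' := congrArg ULift.down h2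
    refine sec_ext ?_
    have h3 := h1
    injection h3
  · rintro T ⟨u, ψ, hl, hc⟩ ⟨v⟩ h
    have h3 := h
    injection h3 with h4 h5
    subst h4
    have h6 : f.map ψ = φ.hom.toNatTrans.app (pt v) := eq_of_heq h5
    exact ⟨(⟨v, ψ, hl, h6⟩ : Sec f (BasedFunctor.comp (AlgSt.overMap k) x₁)
      (BasedFunctor.comp (AlgSt.overMap k) x₂) φ T), rfl, rfl⟩

theorem exists_ptMap (ξ : (AlgSp.pyon S).obj V ⟶
    psh g (BasedFunctor.comp x₁ f) (BasedFunctor.comp x₂ f) (assocIso f g x₁ x₂ θ) h𝒴 h𝒵) :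
    ∃ (k : V ⟶ U) (φ : BasedFunctor.comp (BasedFunctor.comp (AlgSt.overMap k) x₁) f ≅
        BasedFunctor.comp (BasedFunctor.comp (AlgSt.overMap k) x₂) f)
      (hφ : ∀ a : (FibCat.overCat V).obj, g.map (φ.hom.toNatTrans.app a) =
        θ.hom.toNatTrans.app ((AlgSt.overMap k).obj a)), ξ = ptMap f g k x₁ x₂ θ h𝒴 h𝒵 φ hφ := by
  obtain ⟨k, φ, hφ, h⟩ := exists_of_pt h𝒴 h𝒵 ξ
  refine ⟨k, φ, hφ, ?_⟩
  ext T v
  exact h T.unop v.down

end Comp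

end K739.Diag
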