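import Groth.Agent.AlgSt.K739.Descent
import Groth.Agent.AlgSt.K743.DiagBC
import Groth.Agent.AlgSt.K742.RepComp
import Groth.Agent.AlgSt.K734.RepSp2

/-!
# Properties of the diagonal of `g : 𝒳 ⟶ 𝒮` from a chart `w : 𝒲 ⟶ 𝒳`

* `K739.ChartDiag.repByAlgSpWith_of_comp`: cancellation for representable morphisms, via the graph.
* `K739.ChartDiag.trPshIso`: transport of `Isom_f(x₁, x₂; φ)` along isomorphisms of `x₁`, `x₂`.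
* `K739.ChartDiag.exists_fppf_lift₂`: simultaneous lifting of two objects.
* `K739.ChartDiag.repByAlgSpWith_diag_of_chart`: `w` flat, locally of finite presentation, surjective with `P(w)` and
  `P(diag (w ⋙ g))`; then `P(diag g)`.
-/

set_option autoImplicit false
set_option linter.unusedVariables false
set_option backward.isDefEq.respectTransparency false
set_option backward.isDefEq.respectTransparency.types false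

universe w₃ v₃ w₂ v₂ w₁ v₁ w' v' w v u

open CategoryTheory CategoryTheory.Limits AlgebraicGeometry Opposite

namespace K739.ChartDiag

open K739.Psh K739.Rep K739.Isom K739.Diag K739.DiagComp K739.Props K739.Alg K739.Descent

section Cancel

variable {S : Scheme.{u}} {𝒜 ℬ 𝒞 : AlgSt.Cat S}

/-- Cancellation for representable morphisms: `P(F ⋙ G)` and `Q(diag G)` give `R(F)`, when `Q a` and `P b` imply
`R (a ≫ b)` (`Q` stable under base change and fppf local). -/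
theorem repByAlgSpWith_of_comp {P Q R : MorphismProperty (AlgSp.Sp S)} (hQb : BC Q)
    (hQl : AlgSp.IsLocalOnBase AlgSp.IsFppfCover Q)
    (hQP : ∀ ⦃X Y Z : AlgSp.Sp S⦄, AlgSp.IsAlgSpace X → AlgSp.IsAlgSpace Y → AlgSp.IsAlgSpace Z →
      ∀ (a : X ⟶ Y) (b : Y ⟶ Z), Q a → P b → R (a ≫ b))
    (h𝒜 : FibCat.IsFibGrpd 𝒜.p) (hℬ : FibCat.IsFibGrpd ℬ.p) (h𝒞 : FibCat.IsFibGrpd 𝒞.p)
    (F : 𝒜 ⥤ᵇ ℬ) (G : ℬ ⥤ᵇ 𝒞) (h : AlgSt.RepByAlgSpWith P (BasedFunctor.comp F G))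
    (hG : AlgSt.RepByAlgSpWith Q (FibCat.diag G)) : AlgSt.RepByAlgSpWith R F := by
  let e : BasedFunctor.comp (BasedFunctor.id 𝒜) (BasedFunctor.comp F G) ≅ BasedFunctor.comp F G := Iso.refl _
  have h1 : AlgSt.RepByAlgSpWith Q (FibCat.fpLift (BasedFunctor.id 𝒜) F e) :=
    K743.DiagBC.repByAlgSpWith_graph (BasedFunctor.comp F G) G F e hG
  have h2 : AlgSt.RepByAlgSpWith P (FibCat.fpSnd (BasedFunctor.comp F G) G) :=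
    K742.RepComp.repByAlgSpWith_fpSnd (BasedFunctor.comp F G) G h
  exact K734.Rep.repByAlgSpWith_comp_of h𝒜 (K735.Fp.isFibGrpd_fp h𝒜 hℬ h𝒞 _ _) hQb hQP hQl h1 h2

end Cancel

section Tr

variable {S : Scheme.{u}} {𝒳 : BasedCategory.{u, w} (Over S)} {𝒴 : BasedCategory.{v', w'} (Over S)}
  {f : 𝒳 ⥤ᵇ 𝒴} {U : Over S} {x₁ x₂ x₁' x₂' : FibCat.overCat U ⥤ᵇ 𝒳} (α₁ : x₁ ≅ x₁') (α₂ : x₂ ≅ x₂')
  (φ : BasedFunctor.comp x₁ f ≅ BasedFunctor.comp x₂ f)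

/-- `φ` transported along `α₁`, `α₂`. -/
abbrev trIso : BasedFunctor.comp x₁' f ≅ BasedFunctor.comp x₂' f := (wr α₁ f).symm ≪≫ φ ≪≫ wr α₂ f

theorem trIso_app (a : (FibCat.overCat U).obj) : (trIso α₁ α₂ φ).hom.toNatTrans.app a =
    f.map (appIso α₁ a).inv ≫ φ.hom.toNatTrans.app a ≫ f.map (appIso α₂ a).hom := rfl

theorem appIso_hom_lift (a : (FibCat.overCat U).obj) : 𝒳.p.IsHomLift (𝟙 a.left) (appIso α₁ a).hom :=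
  α₁.hom.isHomLift' a

theorem appIso_inv_lift (a : (FibCat.overCat U).obj) : 𝒳.p.IsHomLift (𝟙 a.left) (appIso α₁ a).inv :=
  α₁.inv.isHomLift' a

theorem conj_aux {C : Type u} [Category.{v} C] {A B A' B' : C} (a : A ⟶ A') (a' : A' ⟶ A) (m : A ⟶ B) (b : B ⟶ B')
    (b' : B' ⟶ B) (h : a ≫ a' = 𝟙 A) (h' : b ≫ b' = 𝟙 B) : a ≫ (a' ≫ m ≫ b) ≫ b' = m := by
  rw [Category.assoc, Category.assoc, h', Category.comp_id, ← Category.assoc, h, Category.id_comp]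

/-- Transport of sections. -/
def trEquiv (T : Over S) : Sec f x₁ x₂ φ T ≃ Sec f x₁' x₂' (trIso α₁ α₂ φ) T where
  toFun s :=
    { u := s.u
      ψ := (appIso α₁ (pt s.u)).inv ≫ s.ψ ≫ (appIso α₂ (pt s.u)).hom
      lift := by
        have h1 := s.lift
        have h2 : 𝒳.p.IsHomLift (𝟙 T) (appIso α₁ (pt s.u)).inv := appIso_inv_lift α₁ (pt s.u)
        have h3 : 𝒳.p.IsHomLift (𝟙 T) (appIso α₂ (pt s.u)).hom := appIso_hom_lift α₂ (pt s.u)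
        infer_instance
      comp := by
        rw [trIso_app, f.map_comp, f.map_comp, s.comp] }
  invFun s :=
    { u := s.u
      ψ := (appIso α₁ (pt s.u)).hom ≫ s.ψ ≫ (appIso α₂ (pt s.u)).inv
      lift := by
        have h1 := s.lift
        have h2 : 𝒳.p.IsHomLift (𝟙 T) (appIso α₁ (pt s.u)).hom := appIso_hom_lift α₁ (pt s.u)
        have h3 : 𝒳.p.IsHomLift (𝟙 T) (appIso α₂ (pt s.u)).inv := appIso_inv_lift α₂ (pt s.u)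
        infer_instance
      comp := by
        have h := s.comp
        rw [trIso_app] at h
        rw [f.map_comp, f.map_comp, h]
        have e1 : f.map (appIso α₁ (pt s.u)).hom ≫ f.map (appIso α₁ (pt s.u)).inv = 𝟙 _ := by
          rw [← f.map_comp, Iso.hom_inv_id, f.map_id]
        have e2 : f.map (appIso α₂ (pt s.u)).hom ≫ f.map (appIso α₂ (pt s.u)).inv = 𝟙 _ := by
          rw [← f.map_comp, Iso.hom_inv_id, f.map_id]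
        exact conj_aux _ _ _ _ _ e1 e2 }
  left_inv s := by
    refine sec_ext ?_
    simp
  right_inv s := by
    refine sec_ext ?_
    simp

variable (h𝒳 : FibCat.IsFibGrpd 𝒳.p) (h𝒴 : FibCat.IsFibGrpd 𝒴.p)

/-- Transport of `Isom_f(x₁, x₂; φ)` along isomorphisms. -/
noncomputable def trPshIso : psh f x₁ x₂ φ h𝒳 h𝒴 ≅ psh f x₁' x₂' (trIso α₁ α₂ φ) h𝒳 h𝒴 :=
  isoOf _ _ _ _ (trEquiv α₁ α₂ φ) (fun T T' t s s' h => by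
    obtain ⟨h1, h2⟩ := h
    refine ⟨h1, ?_⟩
    change x₁'.map (arr t h1) ≫ (appIso α₁ (pt s.u)).inv ≫ s.ψ ≫ (appIso α₂ (pt s.u)).hom =
      ((appIso α₁ (pt s'.u)).inv ≫ s'.ψ ≫ (appIso α₂ (pt s'.u)).hom) ≫ x₂'.map (arr t h1)
    have n1 : x₁.map (arr t h1) ≫ (appIso α₁ (pt s.u)).hom = (appIso α₁ (pt s'.u)).hom ≫ x₁'.map (arr t h1) :=
      appIso_nat α₁ (arr t h1)
    have n2 : x₂.map (arr t h1) ≫ (appIso α₂ (pt s.u)).hom = (appIso α₂ (pt s'.u)).hom ≫ x₂'.map (arr t h1) :=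
      appIso_nat α₂ (arr t h1)
    have n3 : x₁'.map (arr t h1) ≫ (appIso α₁ (pt s.u)).inv = (appIso α₁ (pt s'.u)).inv ≫ x₁.map (arr t h1) := by
      rw [Iso.comp_inv_eq, Category.assoc, n1, Iso.inv_hom_id_assoc]
    rw [← Category.assoc, n3, Category.assoc, ← Category.assoc (x₁.map _), h2, Category.assoc, n2]
    simp only [Category.assoc])

theorem trPshIso_toBase : (trPshIso α₁ α₂ φ h𝒳 h𝒴).hom ≫ toBase f x₁' x₂' (trIso α₁ α₂ φ) h𝒳 h𝒴 =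
    toBase f x₁ x₂ φ h𝒳 h𝒴 := by
  ext T s
  rfl

theorem repPsh_tr {P : MorphismProperty (AlgSp.Sp S)} (h : RepPsh P (toBase f x₁ x₂ φ h𝒳 h𝒴)) :
    RepPsh P (toBase f x₁' x₂' (trIso α₁ α₂ φ) h𝒳 h𝒴) :=
  h.of_iso (trPshIso α₁ α₂ φ h𝒳 h𝒴) (trPshIso_toBase α₁ α₂ φ h𝒳 h𝒴)

end Tr

section RepAtPsh

variable {S : Scheme.{u}} {𝒳 : BasedCategory.{u, w} (Over S)} {𝒴 : BasedCategory.{v', w'} (Over S)}

theorem repAt_diag_iff {P : MorphismProperty (AlgSp.Sp S)} (f : 𝒳 ⥤ᵇ 𝒴) {U : Over S}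
    (x₁ x₂ : FibCat.overCat U ⥤ᵇ 𝒳) (φ : BasedFunctor.comp x₁ f ≅ BasedFunctor.comp x₂ f)
    (h𝒳 : FibCat.IsFibGrpd 𝒳.p) (h𝒴 : FibCat.IsFibGrpd 𝒴.p) :
    RepAt P (FibCat.fpFst (FibCat.fpLift x₁ x₂ φ) (FibCat.diag f)) ↔ RepPsh P (toBase f x₁ x₂ φ h𝒳 h𝒴) := by
  rw [← prMap_toFp, ← repAt_iff_repPsh _ _ (isEquivOver_toFp f x₁ x₂ φ h𝒳 h𝒴)]

end RepAtPsh

section Lift₂

variable {S : Scheme.{u}} {𝒲 : BasedCategory.{v₂, w₂} (Over S)} {𝒴 : BasedCategory.{v', w'} (Over S)}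

/-- Simultaneous fppf local lifting of two objects. -/
theorem exists_fppf_lift₂ (w : 𝒲 ⥤ᵇ 𝒴) (hw₁ : AlgSt.RepByAlgSpWith (AlgSp.LocP @Flat) w)
    (hw₂ : AlgSt.RepByAlgSpWith (AlgSp.LocP @LocallyOfFinitePresentation) w)
    (hw₃ : AlgSt.RepByAlgSpWith AlgSp.IsSurjectiveMor w) {U : Over S} (y₁ y₂ : FibCat.overCat U ⥤ᵇ 𝒴) :
    ∃ (V : Over S) (k : V ⟶ U) (v₁ v₂ : FibCat.overCat V ⥤ᵇ 𝒲), K595.RepDesc.Fppf k.left ∧
      Nonempty (BasedFunctor.comp v₁ w ≅ BasedFunctor.comp (AlgSt.overMap k) y₁) ∧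
      Nonempty (BasedFunctor.comp v₂ w ≅ BasedFunctor.comp (AlgSt.overMap k) y₂) := by
  obtain ⟨V₁, k₁, v₁, hk₁, ⟨ι₁⟩⟩ := exists_fppf_lift w hw₁ hw₂ hw₃ y₁
  obtain ⟨V₂, k₂, v₂, hk₂, ⟨ι₂⟩⟩ := exists_fppf_lift w hw₁ hw₂ hw₃ (BasedFunctor.comp (AlgSt.overMap k₁) y₂)
  refine ⟨V₂, k₂ ≫ k₁, BasedFunctor.comp (AlgSt.overMap k₂) v₁, v₂, ?_, ⟨?_⟩, ⟨?_⟩⟩
  · rw [Over.comp_left]
    exact K595.RepDesc.fppf_isStableUnderComposition.comp_mem _ _ hk₂ hk₁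
  · exact (wl (AlgSt.overMap k₂) ι₁ : BasedFunctor.comp (BasedFunctor.comp (AlgSt.overMap k₂) v₁) w ≅
      BasedFunctor.comp (BasedFunctor.comp (AlgSt.overMap k₂) (AlgSt.overMap k₁)) y₁) ≪≫
      wr (K743.Chart.overMapComp k₂ k₁) y₁
  · exact ι₂ ≪≫ (wr (K743.Chart.overMapComp k₂ k₁) y₂ :
      BasedFunctor.comp (BasedFunctor.comp (AlgSt.overMap k₂) (AlgSt.overMap k₁)) y₂ ≅ _)

end Lift₂

section Chart

variable {S : Scheme.{u}} {𝒲 𝒳 𝒮 : AlgSt.Cat S}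

/-- The comparison `𝒲 ×_𝒳 𝒲 ⟶ 𝒲 ×_𝒮 𝒲`. -/
abbrev relMap (w : 𝒲 ⥤ᵇ 𝒳) (g : 𝒳 ⥤ᵇ 𝒮) :
    FibCat.fp w w ⥤ᵇ FibCat.fp (BasedFunctor.comp w g) (BasedFunctor.comp w g) :=
  FibCat.fpLift (FibCat.fpFst w w) (FibCat.fpSnd w w) (wr (FibCat.fpIso w w) g)

/-- `P(diag g)` from a chart and `P` of the comparison map `𝒲 ×_𝒳 𝒲 ⟶ 𝒲 ×_𝒮 𝒲`. -/
theorem repByAlgSpWith_diag_of_relMap {P : MorphismProperty (AlgSp.Sp S)} (hP : IsoInv P) (hPd : FppfDesc P)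
    (h𝒳 : FibCat.IsFibGrpd 𝒳.p) (h𝒮 : FibCat.IsFibGrpd 𝒮.p) (w : 𝒲 ⥤ᵇ 𝒳) (g : 𝒳 ⥤ᵇ 𝒮)
    (hg : AlgSt.RepByAlgSp1 (FibCat.diag g))
    (hw₁ : AlgSt.RepByAlgSpWith (AlgSp.LocP @Flat) w)
    (hw₂ : AlgSt.RepByAlgSpWith (AlgSp.LocP @LocallyOfFinitePresentation) w)
    (hw₃ : AlgSt.RepByAlgSpWith AlgSp.IsSurjectiveMor w)
    (h : AlgSt.RepByAlgSpWith P (relMap w g)) : AlgSt.RepByAlgSpWith P (FibCat.diag g) := by
  refine repByAlgSpWith_diag_of_local hP hPd h𝒳 h𝒮 g hg fun U x₁ x₂ φ => ?_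
  obtain ⟨V, k, v₁, v₂, hk, ⟨ι₁⟩, ⟨ι₂⟩⟩ := exists_fppf_lift₂ w hw₁ hw₂ hw₃ x₁ x₂
  refine ⟨V, k, hk, ?_⟩
  let φ' : BasedFunctor.comp (BasedFunctor.comp v₁ w) g ≅ BasedFunctor.comp (BasedFunctor.comp v₂ w) g :=
    wr ι₁ g ≪≫ resIso g k x₁ x₂ φ ≪≫ (wr ι₂ g).symm
  let y : FibCat.overCat V ⥤ᵇ FibCat.fp (BasedFunctor.comp w g) (BasedFunctor.comp w g) := FibCat.fpLift v₁ v₂ φ'
  have hc := K743.DiagBC.cmp_isCart w w g (wr (FibCat.fpIso w w) g) (fun x => rfl)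
  have h1 : RepAt P (FibCat.fpFst y (relMap w g)) := h V y
  have h2 : RepAt P (FibCat.fpFst (BasedFunctor.comp y (K743.DiagBC.cmpB w w g)) (FibCat.diag g)) :=
    h1.of_equiv _ (hc.cmp_isEquivOver y) (Iso.refl _)
  have h3 : RepAt P (FibCat.fpFst (FibCat.fpLift (BasedFunctor.comp v₁ w) (BasedFunctor.comp v₂ w) φ')
      (FibCat.diag g)) := h2
  have h4 : RepPsh P (toBase g (BasedFunctor.comp v₁ w) (BasedFunctor.comp v₂ w) φ' h𝒳 h𝒮) :=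
    (repAt_diag_iff g _ _ φ' h𝒳 h𝒮).1 h3
  have h5 := repPsh_tr ι₁ ι₂ φ' h𝒳 h𝒮 h4
  have h6 : trIso ι₁ ι₂ φ' = resIso g k x₁ x₂ φ := by
    change (wr ι₁ g).symm ≪≫ ((wr ι₁ g) ≪≫ resIso g k x₁ x₂ φ ≪≫ (wr ι₂ g).symm) ≪≫ wr ι₂ g = _
    simp
  rw [h6] at h5
  exact h5

/-- `P(diag g)` from a chart `w` with `P(w)` and `P(diag (w ⋙ g))`. -/
theorem repByAlgSpWith_diag_of_chart {P : MorphismProperty (AlgSp.Sp S)} (hPb : BC P) (hPc : Comp P)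
    (hPl : AlgSp.IsLocalOnBase AlgSp.IsFppfCover P)
    (h𝒲 : FibCat.IsFibGrpd 𝒲.p) (h𝒳 : FibCat.IsFibGrpd 𝒳.p) (h𝒮 : FibCat.IsFibGrpd 𝒮.p)
    (w : 𝒲 ⥤ᵇ 𝒳) (g : 𝒳 ⥤ᵇ 𝒮) (hg : AlgSt.RepByAlgSp1 (FibCat.diag g))
    (hw₁ : AlgSt.RepByAlgSpWith (AlgSp.LocP @Flat) w)
    (hw₂ : AlgSt.RepByAlgSpWith (AlgSp.LocP @LocallyOfFinitePresentation) w)
    (hw₃ : AlgSt.RepByAlgSpWith AlgSp.IsSurjectiveMor w)
    (hw : AlgSt.RepByAlgSpWith P w) (hwg : AlgSt.RepByAlgSpWith P (FibCat.diag (BasedFunctor.comp w g))) :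
    AlgSt.RepByAlgSpWith P (FibCat.diag g) := by
  refine repByAlgSpWith_diag_of_relMap (isoInv_of_baseChange P hPb) (fppfDesc_of_fppf hPl) h𝒳 h𝒮 w g hg hw₁ hw₂ hw₃ ?_
  have h𝒜 : FibCat.IsFibGrpd (FibCat.fp w w).p := K735.Fp.isFibGrpd_fp h𝒲 h𝒲 h𝒳 w w
  have hℬ : FibCat.IsFibGrpd (FibCat.fp (BasedFunctor.comp w g) (BasedFunctor.comp w g)).p :=
    K735.Fp.isFibGrpd_fp h𝒲 h𝒲 h𝒮 _ _
  refine repByAlgSpWith_of_comp (P := P) (Q := P) (R := P) hPb hPl hPc h𝒜 hℬ h𝒲 (relMap w g)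
    (FibCat.fpFst (BasedFunctor.comp w g) (BasedFunctor.comp w g)) ?_ ?_
  · exact K742.RepComp.repByAlgSpWith_fpFst w w hw
  · exact K739.Sect.repByAlgSpWith_diag_fpFst _ _ h𝒲 h𝒮 h𝒲 hℬ hwg

end Chart

end K739.ChartDiag
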