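import Groth.Agent.AlgSt.K739.RepDiag2
import Groth.Agent.AlgSt.K739.PtLift
import Groth.Agent.AlgSt.K740.Inertia
import Groth.Agent.S10262
import Groth.Agent.S10649
import Groth.Agent.S12776
import Groth.Agent.AlgSt.K740.SpIso
import Groth.Prelude.Def_StGerb2

/-!
# Stabilizer preserving etale morphisms

* `K739.StabEt.openImm_diag`: the diagonal of a representable etale morphism is an open immersion.
* `K739.StabEt.exists_sec`: if `h` is representable etale and bijective on automorphism groups of geometric points then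
  automorphisms of `h(u)` lift to automorphisms of `u`, over every scheme.
* `K739.StabEt.isCart_inertia`: the inertia of the source is the base change of the inertia of the target.
-/

set_option autoImplicit false
set_option linter.unusedVariables false
set_option backward.isDefEq.respectTransparency false
set_option backward.isDefEq.respectTransparency.types false

universe v₃ w₃ v₂ w₂ v₁ w₁ w' v' w v u

open CategoryTheory CategoryTheory.Limits AlgebraicGeometry Opposite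

namespace K739.StabEt

open K739.Psh K739.Rep K739.Isom K739.Diag K739.DiagComp K739.Props K739.Alg

section Open

variable {S : Scheme.{u}} {𝒰 : BasedCategory.{v, w} (Over S)} {𝒳 : BasedCategory.{v', w'} (Over S)}

theorem openImm_diag {h : 𝒰 ⥤ᵇ 𝒳} (hh : AlgSt.RepByAlgSpWith (AlgSp.LocP @Etale) h) :
    AlgSt.RepByAlgSpWith (AlgSp.RepWith @IsOpenImmersion) (FibCat.diag h) := by
  refine K738.repByAlgSpWith_diag hh ?_
  intro F U V π i fst g hπ sq hi
  rw [AlgSp.repWith_yon_map_iff]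
  have h1 : AlgSp.LocP (@LocallyOfFiniteType ⊓ @FormallyUnramified) π :=
    K597.locP_mono (P := @Etale) (Q := @LocallyOfFiniteType ⊓ @FormallyUnramified)
      (fun A B f (hf : Etale f) => ⟨inferInstance, inferInstance⟩) hπ
  have h2 := (Groth.Agent.S10262.result (X := F) (Y := (AlgSp.ofScheme S).obj U) (ObjectProperty.homMk π)).1 h1
  exact h2.2 _ _ _ sq

end Open

section Lift

variable {S : Scheme.{u}} {𝒰 : BasedCategory.{u, w} (Over S)} {𝒳 : BasedCategory.{v', w'} (Over S)}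

theorem exists_sec (h𝒰 : FibCat.IsFibGrpd 𝒰.p) (h𝒳 : FibCat.IsFibGrpd 𝒳.p) (h : 𝒰 ⥤ᵇ 𝒳)
    (hd : AlgSt.RepByAlgSpWith (AlgSp.RepWith @IsOpenImmersion) (FibCat.diag h))
    (haut : ∀ (Ω : Type u) [Field Ω] [IsAlgClosed Ω] (t : Spec (CommRingCat.of Ω) ⟶ S)
      (z : 𝒰.p.Fiber (Over.mk t)), Function.Surjective (Gerb.autMap h z.1))
    {T : Over S} (x : FibCat.overCat T ⥤ᵇ 𝒰) (φ : BasedFunctor.comp x h ≅ BasedFunctor.comp x h) :
    ∃ s : Sec h x x φ T, s.u = 𝟙 T := by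
  obtain ⟨hG, hA, hπ⟩ := (repPsh_iff (isoInv_of_respectsIso _) _).1
    ((repByAlgSpWith_diag_iff _ h h𝒰 h𝒳).1 hd T x x φ)
  set F : AlgSp.Sp S := ⟨psh h x x φ h𝒰 h𝒳, hG⟩ with hF
  set π : F ⟶ (AlgSp.yon S).obj T := ObjectProperty.homMk (toBase h x x φ h𝒰 h𝒳) with hπdef
  obtain ⟨E, i, fst, sq⟩ := hπ.1 (𝟙 ((AlgSp.yon S).obj T))
  have hi : IsOpenImmersion i.left := hπ.2 _ _ _ sq
  have hpt : ∀ (R : Over S) (s : Sec h x x φ R), ∃ j : R ⟶ E, j ≫ i = s.u := by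
    intro R s
    have h1 : K609.Points.ofSection (F := F) (T := R) s ≫ π = (AlgSp.yon S).map s.u ≫ 𝟙 _ := by
      rw [Category.comp_id]
      apply ObjectProperty.hom_ext
      apply NatTrans.ext
      funext R'
      ext ψ
      change π.hom.app R' (F.obj.map ψ.down.op s) = _
      rw [NatTrans.naturality_apply]
      rfl
    obtain ⟨j, hj⟩ := (AlgSp.yon S).map_surjective (sq.lift _ _ h1)
    refine ⟨j, (AlgSp.yon S).map_injective ?_⟩
    rw [Functor.map_comp, hj, sq.lift_snd]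
  have hsurj : Function.Surjective i.left := by
    intro t
    let Ω := AlgebraicClosure (T.left.residueField t)
    let τ : Spec (CommRingCat.of Ω) ⟶ T.left :=
      Spec.map (CommRingCat.ofHom (algebraMap (T.left.residueField t) Ω)) ≫ T.left.fromSpecResidueField t
    let τ' : (Over.mk (τ ≫ T.hom) : Over S) ⟶ T := Over.homMk τ rfl
    let z : 𝒰.p.Fiber (Over.mk (τ ≫ T.hom)) := ⟨x.obj (pt τ'), x.w_obj _⟩
    have hl : 𝒳.p.IsHomLift (𝟙 (𝒳.p.obj (h.obj (x.obj (pt τ'))))) (φ.hom.toNatTrans.app (pt τ')) := by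
      exact φ.hom.isHomLift ((BasedFunctor.comp x h).w_obj (pt τ')).symm
    have hl' : 𝒳.p.IsHomLift (𝟙 (𝒳.p.obj (h.obj (x.obj (pt τ'))))) (φ.inv.toNatTrans.app (pt τ')) := by
      exact φ.inv.isHomLift ((BasedFunctor.comp x h).w_obj (pt τ')).symm
    let α : Gerb.AutO (h.obj z.1) :=
      { hom := ⟨φ.hom.toNatTrans.app (pt τ'), hl⟩
        inv := ⟨φ.inv.toNatTrans.app (pt τ'), hl'⟩
        hom_inv_id := by
          apply Functor.Fiber.hom_ext
          exact congrArg (fun k => k.toNatTrans.app (pt τ')) φ.hom_inv_id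
        inv_hom_id := by
          apply Functor.Fiber.hom_ext
          exact congrArg (fun k => k.toNatTrans.app (pt τ')) φ.inv_hom_id }
    obtain ⟨β, hβ⟩ := haut Ω (τ ≫ T.hom) z α
    have h2 : h.map β.hom.1 = φ.hom.toNatTrans.app (pt τ') := congrArg (fun k => k.hom.1) hβ
    have h3 : 𝒰.p.IsHomLift (𝟙 (Over.mk (τ ≫ T.hom))) β.hom.1 :=
      K735.Fib.Vert.isHomLift β.hom.2 z.2
    obtain ⟨j, hj⟩ := hpt _ { u := τ', ψ := β.hom.1, lift := h3, comp := h2 }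
    refine ⟨j.left (IsLocalRing.closedPoint Ω), ?_⟩
    rw [← Scheme.Hom.comp_apply, ← Over.comp_left, hj]
    change τ (IsLocalRing.closedPoint Ω) = t
    rw [Scheme.Hom.comp_apply]
    exact Scheme.fromSpecResidueField_apply _ _
  have hs : Surjective i.left := ⟨hsurj⟩
  have hiso : IsIso i.left := by
    have : QuasiCompact i.left := by
      have hh : IsHomeomorph i.left := ⟨i.left.continuous, i.left.isOpenMap, i.left.injective, hsurj⟩
      exact ⟨fun U hU hc => hh.homeomorph.isCompact_preimage.mpr hc⟩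
    exact Flat.isIso_of_surjective_of_mono i.left
  have hiso' : IsIso i := by
    have : IsIso ((Over.forget S).map i) := hiso
    exact isIso_of_reflects_iso i (Over.forget S)
  let σ : (AlgSp.yon S).obj T ⟶ F := (AlgSp.yon S).map (inv i) ≫ fst
  have hσ : σ ≫ π = 𝟙 _ := by
    rw [Category.assoc, sq.w, Category.comp_id, ← Functor.map_comp, IsIso.inv_hom_id, CategoryTheory.Functor.map_id]
  refine ⟨σ.hom.app (op T) ⟨𝟙 T⟩, ?_⟩
  have h4 := congrArg (fun (k : (AlgSp.yon S).obj T ⟶ (AlgSp.yon S).obj T) => (k.hom.app (op T) ⟨𝟙 T⟩).down) hσ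
  exact h4

/-- The object form: automorphisms of `h(u)` over the identity lift to `u`. -/
theorem exists_aut (h𝒰 : FibCat.IsFibGrpd 𝒰.p) (h𝒳 : FibCat.IsFibGrpd 𝒳.p) (h : 𝒰 ⥤ᵇ 𝒳)
    (hd : AlgSt.RepByAlgSpWith (AlgSp.RepWith @IsOpenImmersion) (FibCat.diag h))
    (haut : ∀ (Ω : Type u) [Field Ω] [IsAlgClosed Ω] (t : Spec (CommRingCat.of Ω) ⟶ S)
      (z : 𝒰.p.Fiber (Over.mk t)), Function.Surjective (Gerb.autMap h z.1))
    (a : 𝒰.obj) (α : h.obj a ≅ h.obj a) (hα : K735.Fib.Vert 𝒳.p α.hom) :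
    ∃ β : a ≅ a, K735.Fib.Vert 𝒰.p β.hom ∧ h.map β.hom = α.hom := by
  let x := K735.Fp.yonF h𝒰 a rfl
  let ι := K735.Fp.yonFIso h𝒰 a rfl
  have hι : K735.Fib.Vert 𝒰.p ι.hom := K735.Fp.vert_yonFIso h𝒰 a rfl
  let c : h.obj (x.obj (K735.Fp.idObj (𝒰.p.obj a))) ⟶ h.obj (x.obj (K735.Fp.idObj (𝒰.p.obj a))) :=
    h.map ι.hom ≫ α.hom ≫ h.map ι.inv
  have hc : K735.Fib.Vert 𝒳.p c :=
    (K735.Fib.Vert.map h hι).comp (hα.comp (K735.Fib.Vert.map h (K735.Fib.Vert.iso_inv hι)))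
  obtain ⟨φ, hφ⟩ := K735.Fp.exists_yonIso h𝒳 (BasedFunctor.comp x h) (BasedFunctor.comp x h) c hc
  obtain ⟨s, hs⟩ := exists_sec h𝒰 h𝒳 h hd haut x φ
  let ψ : x.obj (pt (𝟙 _)) ⟶ x.obj (pt (𝟙 _)) := secAt s hs
  have hψ : K735.Fib.Vert 𝒰.p ψ := K735.Fib.vert_of_isHomLift (secAt_lift s hs)
  have hψ' : h.map ψ = c := (secAt_comp s hs).trans hφ
  have := hψ.isIso h𝒰
  refine ⟨ι.symm ≪≫ asIso ψ ≪≫ ι, ?_, ?_⟩
  · exact (K735.Fib.Vert.iso_inv hι).comp (hψ.comp hι)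
  · change h.map (ι.inv ≫ ψ ≫ ι.hom) = α.hom
    rw [Functor.map_comp, Functor.map_comp, hψ']
    simp only [c, Category.assoc]
    rw [← Functor.map_comp_assoc, ι.inv_hom_id, ← Functor.map_comp, ι.inv_hom_id, CategoryTheory.Functor.map_id,
      Category.comp_id, Category.id_comp]

end Lift

section Inertia

variable {C : Type u} [Category.{v} C] {𝒰 : BasedCategory.{v₁, w₁} C} {𝒳 : BasedCategory.{v₂, w₂} C}

theorem map_eq_id_iff {a : 𝒰.obj} (α : a ⟶ a) : 𝒰.p.map α = 𝟙 _ ↔ K735.Fib.Vert 𝒰.p α :=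
  ⟨fun h => K735.Fib.vert_of_map_eq rfl h, fun h => h.map_eq⟩

/-- Functoriality of the absolute inertia. -/
def inertiaMap (h : 𝒰 ⥤ᵇ 𝒳) : FibCat.inertia (FibCat.toSelf 𝒰) ⥤ᵇ FibCat.inertia (FibCat.toSelf 𝒳) where
  toFunctor :=
    { obj := fun x => ⟨h.obj x.pt, h.mapIso x.aut,
        (map_eq_id_iff _).2 (K735.Fib.Vert.map h ((map_eq_id_iff _).1 x.map_aut))⟩
      map := fun {x y} f => ⟨h.map f.hom, by
        change h.map x.aut.hom ≫ h.map f.hom = h.map f.hom ≫ h.map y.aut.hom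
        rw [← Functor.map_comp, ← Functor.map_comp, f.comm]⟩
      map_id := fun x => FibCat.InertiaObj.hom_ext (h.map_id x.pt)
      map_comp := fun f g => FibCat.InertiaObj.hom_ext (h.map_comp f.hom g.hom) }
  w := by
    fapply CategoryTheory.Functor.ext
    · intro a
      exact h.w_obj (FibCat.InertiaObj.pt a)
    · intro a b f
      exact K735.Fib.map_map h (FibCat.InertiaObj.Hom.hom f)

/-- The inertia square is 2-cartesian when `h` is faithful and automorphisms lift. -/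
theorem isCart_inertia (h : 𝒰 ⥤ᵇ 𝒳) (hf : h.toFunctor.Faithful)
    (hs : ∀ (a : 𝒰.obj) (α : h.obj a ≅ h.obj a), K735.Fib.Vert 𝒳.p α.hom →
      ∃ β : a ≅ a, K735.Fib.Vert 𝒰.p β.hom ∧ h.map β.hom = α.hom) :
    K743.BC.IsCart (FibCat.inertiaToBase (FibCat.toSelf 𝒰)) (FibCat.inertiaToBase (FibCat.toSelf 𝒳)) (inertiaMap h) h
      (Iso.refl _) where
  full := ⟨by
    intro x y f
    have hw : h.map f.hom.fst ≫ 𝟙 _ = 𝟙 _ ≫ f.hom.snd.hom := f.hom.w
    rw [Category.comp_id, Category.id_comp] at hw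
    refine ⟨⟨f.hom.fst, ?_⟩, ?_⟩
    · apply hf.map_injective
      change h.map (x.aut.hom ≫ f.hom.fst) = h.map (f.hom.fst ≫ y.aut.hom)
      rw [Functor.map_comp, Functor.map_comp, hw]
      exact f.hom.snd.comm
    · apply ObjectProperty.hom_ext
      exact CategoricalPullback.hom_ext rfl (FibCat.InertiaObj.hom_ext hw)⟩
  faithful := ⟨by
    intro x y f g hfg
    exact FibCat.InertiaObj.hom_ext (congrArg (fun k => k.hom.fst) hfg)⟩
  surj := by
    rintro ⟨⟨a, ⟨b, α, hα⟩, (γ : h.obj a ≅ b)⟩, hγ⟩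
    have hγ' : K735.Fib.Vert 𝒳.p γ.hom := K735.Fib.vert_of_isHomLift hγ
    have hα' : K735.Fib.Vert 𝒳.p α.hom := (map_eq_id_iff _).1 hα
    obtain ⟨β, hβ, hβ'⟩ := hs a (γ ≪≫ α ≪≫ γ.symm) (hγ'.comp (hα'.comp (K735.Fib.Vert.iso_inv hγ')))
    change h.map β.hom = γ.hom ≫ α.hom ≫ γ.inv at hβ'
    let θ : (inertiaMap h).obj ⟨a, β, (map_eq_id_iff _).2 hβ⟩ ≅ (⟨b, α, hα⟩ : (FibCat.inertia (FibCat.toSelf 𝒳)).obj) :=
      { hom := ⟨γ.hom, by
          change h.map β.hom ≫ γ.hom = γ.hom ≫ α.hom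
          rw [hβ', Category.assoc, Category.assoc, γ.inv_hom_id, Category.comp_id]⟩
        inv := ⟨γ.inv, by
          change α.hom ≫ γ.inv = γ.inv ≫ h.map β.hom
          rw [hβ', γ.inv_hom_id_assoc]⟩
        hom_inv_id := FibCat.InertiaObj.hom_ext γ.hom_inv_id
        inv_hom_id := FibCat.InertiaObj.hom_ext γ.inv_hom_id }
    refine ⟨⟨a, β, (map_eq_id_iff _).2 hβ⟩, K734.Fib.mkIsoFp (Iso.refl a) θ ?_, ?_⟩
    · change h.map (𝟙 a) ≫ γ.hom = 𝟙 (h.obj a) ≫ γ.hom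
      rw [CategoryTheory.Functor.map_id]
    · rw [← BasedFunctor.isHomLift_iff (FibCat.fpFst h (FibCat.inertiaToBase (FibCat.toSelf 𝒳)))]
      exact IsHomLift.id rfl

end Inertia

section Finite

variable {S : Scheme.{u}} {𝒰 𝒳 : AlgSt.Cat S}

/-- The inertia square of a stabilizer preserving representable etale morphism is 2-cartesian. -/
theorem isCart_of_autMap (h𝒰 : FibCat.IsFibGrpd 𝒰.p) (h𝒳 : FibCat.IsFibGrpd 𝒳.p) (h : 𝒰 ⥤ᵇ 𝒳)
    (hh : AlgSt.RepByAlgSpWith (AlgSp.LocP @Etale) h)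
    (haut : ∀ (Ω : Type u) [Field Ω] [IsAlgClosed Ω] (t : Spec (CommRingCat.of Ω) ⟶ S)
      (z : 𝒰.p.Fiber (Over.mk t)), Function.Surjective (Gerb.autMap h z.1)) :
    K743.BC.IsCart (FibCat.inertiaToBase (FibCat.toSelf 𝒰)) (FibCat.inertiaToBase (FibCat.toSelf 𝒳)) (inertiaMap h) h
      (Iso.refl _) :=
  isCart_inertia h (Groth.Agent.S12776.result h𝒰 h𝒳 h (K735.Rep.repByAlgSp1_of_with hh))
    (exists_aut h𝒰 h𝒳 h (openImm_diag hh) haut)

/-- A proper and locally quasi-finite representable morphism is finite. -/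
theorem repByAlgSpWith_finite {𝒜 : BasedCategory.{v₁, w₁} (Over S)} {ℬ : BasedCategory.{v₂, w₂} (Over S)}
    {f : 𝒜 ⥤ᵇ ℬ} (h₁ : AlgSt.RepByAlgSpWith AlgSp.IsProperMor f) (h₂ : AlgSt.RepByAlgSpWith (Lqf S) f) :
    AlgSt.RepByAlgSpWith AlgSp.IsFiniteMor f := by
  intro U y
  obtain ⟨F, e, he, hP⟩ := K740.SpIso.repByAlgSpWith_inf h₂ h₁ U y
  refine ⟨F, e, he, ?_⟩
  have h3 : AlgSp.IsProperMor (ObjectProperty.homMk
      (AlgSt.spMapOfOver (BasedFunctor.comp e (FibCat.fpFst y f))) : F ⟶ (AlgSp.ofScheme S).obj U).hom ∧ _ :=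
    ⟨hP.2, hP.1⟩
  exact ((Groth.Agent.S10649.result (X := F) (Y := (AlgSp.ofScheme S).obj U) (ObjectProperty.homMk
    (AlgSt.spMapOfOver (BasedFunctor.comp e (FibCat.fpFst y f))))).out 0 1 rfl rfl).2 h3

/-- Finiteness of the inertia from a stabilizer preserving etale covering by separated quasi-DM stacks. -/
theorem finite_inertia (h𝒳 : FibCat.IsFibGrpd 𝒳.p) (hΔ : AlgSt.IsQuasiDMOver 𝒳)
    (hloc : ∀ x : AlgSt.Points 𝒳, ∃ (𝒰 : AlgSt.Cat S) (h : 𝒰 ⥤ᵇ 𝒳), FibCat.IsFibGrpd 𝒰.p ∧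
      x ∈ Set.range (AlgSt.Points.map h) ∧ AlgSt.RepByAlgSpWith (AlgSp.LocP @Etale) h ∧ AlgSt.IsSeparatedOver 𝒰 ∧
      ∀ (Ω : Type u) [Field Ω] [IsAlgClosed Ω] (t : Spec (CommRingCat.of Ω) ⟶ S) (z : 𝒰.p.Fiber (Over.mk t)),
        Function.Surjective (Gerb.autMap h z.1)) :
    AlgSt.RepByAlgSpWith AlgSp.IsFiniteMor (FibCat.inertiaToBase (FibCat.toSelf 𝒳)) := by
  have hI : AlgSt.RepByAlgSpWith (Lqf S) (FibCat.inertiaToBase (FibCat.toSelf 𝒳)) :=
    K740.Inertia.repByAlgSpWith_inertiaToBase _ hΔ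
  refine K739.PtLift.repByAlgSpWith_finite_of_local _ (K735.Rep.repByAlgSp1_of_with hI) ?_
  intro T y t
  obtain ⟨𝒰, h, h𝒰, hx, hh, hsep, haut⟩ := hloc (AlgSt.Points.ofChart y t)
  obtain ⟨V, k, v, hk, ht, ⟨ι⟩⟩ := K739.PtLift.exists_lift_at h𝒰 h𝒳 h hh y t hx
  refine ⟨V, k, hk, ht, ?_⟩
  have hC := isCart_of_autMap h𝒰 h𝒳 h hh haut
  have h1 : AlgSt.RepByAlgSpWith AlgSp.IsFiniteMor (FibCat.inertiaToBase (FibCat.toSelf 𝒰)) :=
    repByAlgSpWith_finite (K740.Inertia.repByAlgSpWith_inertiaToBase _ hsep) (hC.repByAlgSpWith hI)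
  have h2 : K735.Rep.RepOver AlgSp.IsFiniteMor
      (FibCat.fpFst (BasedFunctor.comp v h) (FibCat.inertiaToBase (FibCat.toSelf 𝒳))) :=
    K735.Rep.RepOver.of_equiv (h1 V v) _ (hC.cmp_isEquivOver v) (Iso.refl _)
  exact K735.Rep.RepOver.of_equiv h2 _ (K734.Fib.isEquivOver_fpCongrL ι.symm _) (Iso.refl _)

end Finite

end K739.StabEt
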