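import Groth.Prelude.Def_AlgSt3
import Groth.Prelude.Def_AlgSpRep

/-!
# Basic dictionary: equivalences over a base, presheaves as categories over `C`

* `K739.Psh.sc`, `exists_lift_hom`, `hom_ext_of_comp`: elementary use of `FibCat.IsFibGrpd`.
* `K739.Psh.isEquivOver_of`: a based functor which is full, faithful and essentially surjective over identities is
  an equivalence over the base.
* `K739.Psh.IsEquivOver` calculus: `refl`, `symm`, `comp`, `of_iso`, full/faithful/ess. surjective.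
* `K739.Psh.pshMap`: the map of presheaves attached to a functor `ofPsh F ⥤ᵇ ofPsh G`.
-/

set_option autoImplicit false
set_option backward.isDefEq.respectTransparency false
set_option backward.isDefEq.respectTransparency.types false

universe w₃ v₃ w₂ v₂ w₁ v₁ w v u

open CategoryTheory CategoryTheory.Limits Opposite

namespace K739.Psh

section Grpd

variable {C : Type u} [Category.{v} C] {𝒳 : Type w} [Category.{v₁} 𝒳] {p : 𝒳 ⥤ C}

theorem isHomLift_of_map_eq (p : 𝒳 ⥤ C) {a b : 𝒳} (f : p.obj a ⟶ p.obj b) (φ : a ⟶ b) (h : p.map φ = f) :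
    p.IsHomLift f φ := by
  subst h
  infer_instance

theorem sc (h : FibCat.IsFibGrpd p) {R T : C} {a b : 𝒳} (g : R ⟶ T) (φ : a ⟶ b) [p.IsHomLift g φ] :
    p.IsStronglyCartesian g φ := by
  subst_hom_lift p g φ
  exact h.isStronglyCartesian φ

/-- Factorisation through a morphism of a category fibred in groupoids. -/
theorem exists_fac (h : FibCat.IsFibGrpd p) {R R' T : C} {a a' b : 𝒳} (g : R ⟶ T) (φ : a ⟶ b)
    [p.IsHomLift g φ] (k : R' ⟶ R) (χ : a' ⟶ b) (hχ : p.IsHomLift (k ≫ g) χ) :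
    ∃ ψ : a' ⟶ a, p.IsHomLift k ψ ∧ ψ ≫ φ = χ := by
  have := sc h g φ
  obtain ⟨ψ, hψ, -⟩ := Functor.IsStronglyCartesian.universal_property p g φ k (k ≫ g) rfl χ
  exact ⟨ψ, hψ⟩

/-- Cancellation of a morphism on the right in a category fibred in groupoids. -/
theorem cancel (h : FibCat.IsFibGrpd p) {R : C} {a a' b : 𝒳} (φ : a ⟶ b)
    (k : R ⟶ p.obj a) (ψ ψ' : a' ⟶ a) [p.IsHomLift k ψ] [p.IsHomLift k ψ'] (hh : ψ ≫ φ = ψ' ≫ φ) :
    ψ = ψ' := by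
  have := h.isStronglyCartesian φ
  exact Functor.IsStronglyCartesian.ext p (p.map φ) φ k hh

theorem cancel_of_map_eq (h : FibCat.IsFibGrpd p) {a a' b : 𝒳} (φ : a ⟶ b)
    (ψ ψ' : a' ⟶ a) (hp : p.map ψ = p.map ψ') (hh : ψ ≫ φ = ψ' ≫ φ) :
    ψ = ψ' := by
  have : p.IsHomLift (p.map ψ) ψ := inferInstance
  have : p.IsHomLift (p.map ψ) ψ' := by rw [hp]; infer_instance
  exact cancel h φ (p.map ψ) ψ ψ' hh

/-- Cancellation of a morphism on the right for two morphisms over the identity. -/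
theorem cancel_id (h : FibCat.IsFibGrpd p) {R : C} {a a' b : 𝒳} (φ : a ⟶ b)
    (ψ ψ' : a' ⟶ a) (h₁ : p.IsHomLift (𝟙 R) ψ) (h₂ : p.IsHomLift (𝟙 R) ψ') (hh : ψ ≫ φ = ψ' ≫ φ) :
    ψ = ψ' := by
  have e : p.map ψ = p.map ψ' := by
    rw [IsHomLift.fac' p (𝟙 R) ψ, IsHomLift.fac' p (𝟙 R) ψ']
  exact cancel_of_map_eq h φ ψ ψ' e hh

/-- A morphism over an identity is an isomorphism. -/
theorem isIso_of_id (h : FibCat.IsFibGrpd p) {R : C} {a b : 𝒳} (ψ : a ⟶ b) [p.IsHomLift (𝟙 R) ψ] : IsIso ψ := by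
  have := sc h (𝟙 R) ψ
  exact Functor.IsStronglyCartesian.isIso_of_base_isIso p (𝟙 R) ψ

end Grpd

section Equiv

variable {C : Type u} [Category.{v} C] {𝒜 : BasedCategory.{v₁, w₁} C} {ℬ : BasedCategory.{v₂, w₂} C}
  {𝒟 : BasedCategory.{v₃, w₃} C}

theorem isEquivOver_of (F : 𝒜 ⥤ᵇ ℬ) (hfull : F.toFunctor.Full) (hfaith : F.toFunctor.Faithful)
    (h : ∀ b : ℬ.obj, ∃ (a : 𝒜.obj) (i : F.obj a ≅ b), ℬ.p.IsHomLift (𝟙 (ℬ.p.obj b)) i.hom) :
    FibCat.IsEquivOver F := by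
  choose g i hi using h
  have hi' : ∀ b, ℬ.p.IsHomLift (𝟙 (ℬ.p.obj b)) (i b).inv := fun b => by
    have := hi b
    infer_instance
  let G₀ : ℬ.obj ⥤ 𝒜.obj :=
    { obj := g
      map := fun {b b'} f => F.toFunctor.preimage ((i b).hom ≫ f ≫ (i b').inv)
      map_id := fun b => by
        apply F.toFunctor.map_injective
        simp
      map_comp := fun {b b' b''} f f' => by
        apply F.toFunctor.map_injective
        simp }
  have hobj : ∀ b, 𝒜.p.obj (g b) = ℬ.p.obj b := fun b => by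
    have := hi b
    rw [← IsHomLift.domain_eq ℬ.p (𝟙 (ℬ.p.obj b)) (i b).hom]
    exact (F.w_obj _).symm
  have hlift : ∀ {b b' : ℬ.obj} (f : b ⟶ b'), 𝒜.p.IsHomLift (ℬ.p.map f) (G₀.map f) := fun {b b'} f => by
    have h1 := hi b
    have h2 := hi' b'
    rw [← BasedFunctor.isHomLift_iff F]
    have : F.map (G₀.map f) = (i b).hom ≫ f ≫ (i b').inv := F.toFunctor.map_preimage _
    rw [this]
    infer_instance
  let G : ℬ ⥤ᵇ 𝒜 :=
    { toFunctor := G₀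
      w := CategoryTheory.Functor.ext hobj (fun b b' f => by
        have := hlift f
        exact IsHomLift.fac' 𝒜.p (ℬ.p.map f) (G₀.map f)) }
  refine ⟨G, ⟨BasedNatIso.mkNatIso (NatIso.ofComponents (fun a => F.toFunctor.preimageIso (i (F.obj a)))
    (fun {a a'} f => by
      apply F.toFunctor.map_injective
      change F.map (F.toFunctor.preimage _ ≫ _) = F.map (_ ≫ f)
      rw [Functor.map_comp, Functor.map_comp, F.toFunctor.map_preimage]
      simp)) (fun a => ?_)⟩, ⟨BasedNatIso.mkNatIso (NatIso.ofComponents (fun b => i b)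
    (fun {b b'} f => by
      change F.map (F.toFunctor.preimage _) ≫ _ = _ ≫ f
      rw [F.toFunctor.map_preimage]
      simp)) (fun b => hi b)⟩⟩
  · have h1 : ℬ.p.IsHomLift (𝟙 (ℬ.p.obj (F.obj a))) (i (F.obj a)).hom := hi (F.obj a)
    rw [F.w_obj] at h1
    rw [← BasedFunctor.isHomLift_iff F]
    change ℬ.p.IsHomLift (𝟙 (𝒜.p.obj a)) (F.map (F.toFunctor.preimage (i (F.obj a)).hom))
    erw [F.toFunctor.map_preimage]
    exact h1

theorem isEquivOver_refl : FibCat.IsEquivOver (BasedFunctor.id 𝒜) :=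
  ⟨BasedFunctor.id 𝒜, ⟨Iso.refl _⟩, ⟨Iso.refl _⟩⟩

theorem isEquivOver_symm {F : 𝒜 ⥤ᵇ ℬ} {G : ℬ ⥤ᵇ 𝒜} (e₁ : BasedFunctor.comp F G ≅ BasedFunctor.id 𝒜)
    (e₂ : BasedFunctor.comp G F ≅ BasedFunctor.id ℬ) : FibCat.IsEquivOver G :=
  ⟨F, ⟨e₂⟩, ⟨e₁⟩⟩

/-- Left whiskering of 2-isomorphisms. -/
def wl (F : 𝒜 ⥤ᵇ ℬ) {G H : ℬ ⥤ᵇ 𝒟} (e : G ≅ H) : BasedFunctor.comp F G ≅ BasedFunctor.comp F H where
  hom := BasedCategory.whiskerLeft F e.hom
  inv := BasedCategory.whiskerLeft F e.inv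
  hom_inv_id := by
    apply BasedNatTrans.homCategory.ext
    ext a
    have := congrArg (fun t => t.toNatTrans.app (F.obj a)) e.hom_inv_id
    exact this
  inv_hom_id := by
    apply BasedNatTrans.homCategory.ext
    ext a
    have := congrArg (fun t => t.toNatTrans.app (F.obj a)) e.inv_hom_id
    exact this

/-- Right whiskering of 2-isomorphisms. -/
def wr {F G : 𝒜 ⥤ᵇ ℬ} (e : F ≅ G) (H : ℬ ⥤ᵇ 𝒟) : BasedFunctor.comp F H ≅ BasedFunctor.comp G H where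
  hom := BasedCategory.whiskerRight e.hom H
  inv := BasedCategory.whiskerRight e.inv H
  hom_inv_id := by
    apply BasedNatTrans.homCategory.ext
    ext a
    have := congrArg (fun t => H.map (t.toNatTrans.app a)) e.hom_inv_id
    exact (H.map_comp _ _).symm.trans (this.trans (H.map_id _))
  inv_hom_id := by
    apply BasedNatTrans.homCategory.ext
    ext a
    have := congrArg (fun t => H.map (t.toNatTrans.app a)) e.inv_hom_id
    exact (H.map_comp _ _).symm.trans (this.trans (H.map_id _))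

theorem isEquivOver_comp {F : 𝒜 ⥤ᵇ ℬ} {G : ℬ ⥤ᵇ 𝒟} (hF : FibCat.IsEquivOver F) (hG : FibCat.IsEquivOver G) :
    FibCat.IsEquivOver (BasedFunctor.comp F G) := by
  obtain ⟨F', ⟨e₁⟩, ⟨e₂⟩⟩ := hF
  obtain ⟨G', ⟨e₃⟩, ⟨e₄⟩⟩ := hG
  refine ⟨BasedFunctor.comp G' F', ⟨?_⟩, ⟨?_⟩⟩
  · exact (wl F (wr e₃ F') : BasedFunctor.comp F (BasedFunctor.comp (BasedFunctor.comp G G') F') ≅ _) ≪≫ e₁
  · exact (wl G' (wr e₂ G) : BasedFunctor.comp G' (BasedFunctor.comp (BasedFunctor.comp F' F) G) ≅ _) ≪≫ e₄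

end Equiv

section Psh

variable {C : Type u} [Category.{v} C]

/-- The map of presheaves attached to a functor over `C` between the associated categories. -/
def pshMap {F G : Cᵒᵖ ⥤ Type w} (Φ : Stk.ofPsh F ⥤ᵇ Stk.ofPsh G) : F ⟶ G where
  app T := ↾fun x => G.map (eqToHom (Φ.w_obj ⟨T.unop, x⟩).symm).op (Φ.obj ⟨T.unop, x⟩).sec
  naturality := fun T T' g => by
    ext x
    dsimp
    let m : (⟨T'.unop, F.map g x⟩ : (Stk.ofPsh F).obj) ⟶ ⟨T.unop, x⟩ := ⟨g.unop, rfl⟩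
    have h1 : G.map (Φ.map m).hom.op (Φ.obj ⟨T.unop, x⟩).sec = (Φ.obj ⟨T'.unop, F.map g x⟩).sec := (Φ.map m).map_sec
    have h3 : (Stk.ofPsh G).p.IsHomLift ((Stk.ofPsh F).p.map m) (Φ.map m) :=
      BasedFunctor.preserves_isHomLift Φ _ _
    have h2 : (Φ.map m).hom = eqToHom (Φ.w_obj _) ≫ g.unop ≫ eqToHom (Φ.w_obj _).symm :=
      IsHomLift.fac' (Stk.ofPsh G).p ((Stk.ofPsh F).p.map m) (Φ.map m)
    rw [← h1, h2, ← Functor.map_comp_apply, ← Functor.map_comp_apply]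
    congr 3
    apply Quiver.Hom.unop_inj
    simp

theorem pshMap_app {F G : Cᵒᵖ ⥤ Type w} (Φ : Stk.ofPsh F ⥤ᵇ Stk.ofPsh G) (T : Cᵒᵖ) (x : F.obj T) :
    (pshMap Φ).app T x = G.map (eqToHom (Φ.w_obj ⟨T.unop, x⟩).symm).op (Φ.obj ⟨T.unop, x⟩).sec := rfl

/-- Two objects of `ofPsh G` joined by a morphism over an identity (up to `eqToHom`) have the same section. -/
theorem sec_eq_of_hom {G : Cᵒᵖ ⥤ Type w} {a b : (Stk.ofPsh G).obj} {T : C} (ha : a.base = T) (hb : b.base = T)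
    (m : a ⟶ b) (hm : (Stk.ofPsh G).p.IsHomLift (𝟙 T) m) :
    G.map (eqToHom ha.symm).op a.sec = G.map (eqToHom hb.symm).op b.sec := by
  have h1 := m.map_sec
  have h2 : m.hom = eqToHom ha ≫ 𝟙 T ≫ eqToHom hb.symm := IsHomLift.fac' (Stk.ofPsh G).p (𝟙 T) m
  rw [← h1, h2, ← Functor.map_comp_apply]
  congr 3
  apply Quiver.Hom.unop_inj
  simp

theorem pshMap_congr {F G : Cᵒᵖ ⥤ Type w} {Φ Φ' : Stk.ofPsh F ⥤ᵇ Stk.ofPsh G} (e : Φ ≅ Φ') :
    pshMap Φ = pshMap Φ' := by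
  ext T x
  exact sec_eq_of_hom (T := T.unop) (Φ.w_obj ⟨T.unop, x⟩) (Φ'.w_obj ⟨T.unop, x⟩) (e.hom.toNatTrans.app ⟨T.unop, x⟩)
    (e.hom.isHomLift' ⟨T.unop, x⟩)

theorem pshMap_id (F : Cᵒᵖ ⥤ Type w) : pshMap (BasedFunctor.id (Stk.ofPsh F)) = 𝟙 F := by
  ext T x
  change F.map (𝟙 _) x = x
  simp

theorem pshMap_comp {F G H : Cᵒᵖ ⥤ Type w} (Φ : Stk.ofPsh F ⥤ᵇ Stk.ofPsh G) (Ψ : Stk.ofPsh G ⥤ᵇ Stk.ofPsh H) :
    pshMap (BasedFunctor.comp Φ Ψ) = pshMap Φ ≫ pshMap Ψ := by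
  ext T x
  change (pshMap (BasedFunctor.comp Φ Ψ)).app T x = (pshMap Ψ).app T ((pshMap Φ).app T x)
  rw [pshMap_app, pshMap_app, pshMap_app]
  let x' : G.obj T := G.map (eqToHom (Φ.w_obj ⟨T.unop, x⟩).symm).op (Φ.obj ⟨T.unop, x⟩).sec
  let m : (⟨T.unop, x'⟩ : (Stk.ofPsh G).obj) ⟶ Φ.obj ⟨T.unop, x⟩ := ⟨eqToHom (Φ.w_obj ⟨T.unop, x⟩).symm, rfl⟩
  have hm : (Stk.ofPsh G).p.IsHomLift (𝟙 T.unop) m := by
    refine IsHomLift.of_fac' (Stk.ofPsh G).p (𝟙 T.unop) m rfl (Φ.w_obj ⟨T.unop, x⟩) ?_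
    change eqToHom (Φ.w_obj ⟨T.unop, x⟩).symm = _
    simp
  have hm' : (Stk.ofPsh H).p.IsHomLift (𝟙 T.unop) (Ψ.map m) := BasedFunctor.preserves_isHomLift Ψ _ _
  exact (sec_eq_of_hom (T := T.unop) (Ψ.w_obj _) ((Ψ.w_obj _).trans (Φ.w_obj ⟨T.unop, x⟩)) (Ψ.map m) hm').symm

/-- The isomorphism of presheaves attached to an equivalence over `C` between the associated categories. -/
theorem exists_pshIso {F G : Cᵒᵖ ⥤ Type w} (Φ : Stk.ofPsh F ⥤ᵇ Stk.ofPsh G) (hΦ : FibCat.IsEquivOver Φ) :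
    ∃ α : F ≅ G, α.hom = pshMap Φ := by
  obtain ⟨Ψ, ⟨e₁⟩, ⟨e₂⟩⟩ := hΦ
  exact ⟨⟨pshMap Φ, pshMap Ψ, by rw [← pshMap_comp, pshMap_congr e₁, pshMap_id],
    by rw [← pshMap_comp, pshMap_congr e₂, pshMap_id]⟩, rfl⟩

theorem pshMap_ofPshMap {F G : Cᵒᵖ ⥤ Type w} (a : F ⟶ G) : pshMap (Stk.ofPshMap a) = a := by
  ext T x
  change G.map (𝟙 _) (a.app _ x) = a.app _ x
  simp

theorem isEquivOver_ofPshMap {F G : Cᵒᵖ ⥤ Type w} (α : F ≅ G) : FibCat.IsEquivOver (Stk.ofPshMap α.hom) := by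
  refine ⟨Stk.ofPshMap α.inv, ⟨BasedNatIso.mkNatIso (NatIso.ofComponents (fun a =>
      { hom := ⟨𝟙 _, by
          change F.map (𝟙 _) a.sec = α.inv.app _ (α.hom.app _ a.sec)
          simp⟩
        inv := ⟨𝟙 _, by
          change F.map (𝟙 _) (α.inv.app _ (α.hom.app _ a.sec)) = a.sec
          simp⟩ }) (fun {a b} f => by
        apply Stk.EltObj.hom_ext
        change f.hom ≫ 𝟙 _ = 𝟙 _ ≫ f.hom
        simp)) (fun a => ?_)⟩, ⟨BasedNatIso.mkNatIso (NatIso.ofComponents (fun a =>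
      { hom := ⟨𝟙 _, by
          change G.map (𝟙 _) a.sec = α.hom.app _ (α.inv.app _ a.sec)
          simp⟩
        inv := ⟨𝟙 _, by
          change G.map (𝟙 _) (α.hom.app _ (α.inv.app _ a.sec)) = a.sec
          simp⟩ }) (fun {a b} f => by
        apply Stk.EltObj.hom_ext
        change f.hom ≫ 𝟙 _ = 𝟙 _ ≫ f.hom
        simp)) (fun a => ?_)⟩⟩
  · refine isHomLift_of_map_eq _ _ _ ?_
    rfl
  · refine isHomLift_of_map_eq _ _ _ ?_
    rfl

end Psh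

end K739.Psh
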