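import Groth.Agent.AlgSt.K739.Diag
import Groth.Agent.AlgSp.K606.RepBySp

/-!
# Diagonals of composites: composition and cancellation for general `P`

The hypotheses on a property `P` of morphisms of algebraic spaces are `K739.DiagComp.BC P` (base change),
`Comp P` (composition), `EtDesc P` (descent along one etale surjective chart of the base), with the same binders as the
hypotheses of S12780.

* `K739.DiagComp.repByAlgSpWith_diag_congr`: `diag f` and `diag f'` for `f ≅ f'` (every `P`).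
* `K739.DiagComp.repByAlgSpWith_diag_comp`: `P(diag f)`, `P(diag g)` give `P(diag (f ⋙ g))`.
* `K739.DiagComp.repByAlgSpWith_diag_of_comp`: cancellation, `P(diag (f ⋙ g))`, `Q(diag g)` give `R(diag f)`.
-/

set_option autoImplicit false
set_option linter.unusedVariables false
set_option backward.isDefEq.respectTransparency false
set_option backward.isDefEq.respectTransparency.types false

universe w₄ v₄ w₃ v₃ w₂ v₂ w₁ v₁ w' v' w v u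

open CategoryTheory CategoryTheory.Limits AlgebraicGeometry Opposite

namespace K739.DiagComp

open K739.Psh K739.Rep K739.Isom K739.Diag

section Hyp

variable {S : Scheme.{u}}

/-- Stability under base change of a property of morphisms of algebraic spaces. -/
abbrev BC (P : MorphismProperty (AlgSp.Sp S)) : Prop :=
  ∀ ⦃X₁ Y₁ X₂ Y₂ : AlgSp.Sp S⦄, AlgSp.IsAlgSpace X₁ → AlgSp.IsAlgSpace Y₁ →
    AlgSp.IsAlgSpace X₂ → AlgSp.IsAlgSpace Y₂ → ∀ (a : X₁ ⟶ Y₁) (b : Y₂ ⟶ Y₁) (a' : X₂ ⟶ Y₂) (b' : X₂ ⟶ X₁),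
      IsPullback b' a' a b → P a → P a'

/-- Stability under composition of a property of morphisms of algebraic spaces. -/
abbrev Comp (P : MorphismProperty (AlgSp.Sp S)) : Prop :=
  ∀ ⦃X Y Z : AlgSp.Sp S⦄, AlgSp.IsAlgSpace X → AlgSp.IsAlgSpace Y → AlgSp.IsAlgSpace Z →
    ∀ (a : X ⟶ Y) (b : Y ⟶ Z), P a → P b → P (a ≫ b)

/-- Descent of a property of morphisms of algebraic spaces along an etale surjective chart of the base. -/
abbrev EtDesc (P : MorphismProperty (AlgSp.Sp S)) : Prop :=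
  ∀ ⦃X Y Q : AlgSp.Sp S⦄ ⦃V : Over S⦄, AlgSp.IsAlgSpace X → AlgSp.IsAlgSpace Y → AlgSp.IsAlgSpace Q →
    ∀ (a : X ⟶ Y) (p : (AlgSp.yon S).obj V ⟶ Y) (fst : Q ⟶ X) (snd : Q ⟶ (AlgSp.yon S).obj V),
      AlgSp.RepWith @Etale p → AlgSp.RepWith @Surjective p → IsPullback fst snd a p → P snd → P a

theorem isPullback_homMk {A B C D : AlgSp.PSp S} {t : A ⟶ B} {l : A ⟶ C} {r : B ⟶ D} {b : C ⟶ D}
    (sq : IsPullback t l r b) (hA : Presheaf.IsSheaf (AlgSp.J S) A) (hB : Presheaf.IsSheaf (AlgSp.J S) B)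
    (hC : Presheaf.IsSheaf (AlgSp.J S) C) (hD : Presheaf.IsSheaf (AlgSp.J S) D) :
    IsPullback (ObjectProperty.homMk t : (⟨A, hA⟩ : AlgSp.Sp S) ⟶ ⟨B, hB⟩)
      (ObjectProperty.homMk l : (⟨A, hA⟩ : AlgSp.Sp S) ⟶ ⟨C, hC⟩)
      (ObjectProperty.homMk r : (⟨B, hB⟩ : AlgSp.Sp S) ⟶ ⟨D, hD⟩)
      (ObjectProperty.homMk b : (⟨C, hC⟩ : AlgSp.Sp S) ⟶ ⟨D, hD⟩) :=
  IsPullback.of_map_of_faithful (sheafToPresheaf (AlgSp.J S) (Type (u + 1))) sq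

/-- A map of presheaves `F ⟶ G` with `G` an algebraic space all whose base changes to schemes are algebraic spaces
with `P`: `F` is an algebraic space and the map has `P`. -/
theorem repPsh_comp {P : MorphismProperty (AlgSp.Sp S)} (hPb : BC P) (hPc : Comp P) (hPe : EtDesc P)
    {U : Over S} {F G : AlgSp.PSp S} (c : F ⟶ G) (q : G ⟶ (AlgSp.pyon S).obj U) (hc : AlgSp.RepBySpWith P c)
    (hq : RepPsh P q) : RepPsh P (c ≫ q) := by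
  have hI := isoInv_of_baseChange P hPb
  obtain ⟨hG, hGA, hPq⟩ := (repPsh_iff hI q).1 hq
  obtain ⟨hF, hFA⟩ := K606.RepBySp.isAlgSpaceP_of_repBySp c hc.repBySp ⟨hG, hGA⟩
  refine repPsh_of _ hF hFA ?_
  let c' : (⟨F, hF⟩ : AlgSp.Sp S) ⟶ ⟨G, hG⟩ := ObjectProperty.homMk c
  have h1 : P c' := by
    obtain ⟨V, p, hp, hp'⟩ := hGA.atlas
    have hc' : AlgSp.RepBySpWith P c'.hom := hc
    obtain ⟨h2, h3⟩ := (AlgSp.repBySpWith_hom_iff P c').1 hc' p _ _ (IsPullback.of_hasPullback c' p)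
    exact hPe hFA hGA h2 c' p _ _ hp hp' (IsPullback.of_hasPullback c' p) h3
  exact hPc hFA hGA (AlgSp.IsAlgSpace.yon_obj U) c'
    (ObjectProperty.homMk q : (⟨G, hG⟩ : AlgSp.Sp S) ⟶ (AlgSp.yon S).obj U) h1 hPq

end Hyp

section Congr

variable {S : Scheme.{u}} {𝒳 : BasedCategory.{u, w} (Over S)} {𝒴 : BasedCategory.{v', w'} (Over S)}
  {f f' : 𝒳 ⥤ᵇ 𝒴} (e : f ≅ f') {U : Over S} (x₁ x₂ : FibCat.overCat U ⥤ᵇ 𝒳)
  (φ : BasedFunctor.comp x₁ f ≅ BasedFunctor.comp x₂ f)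

/-- `φ` transported along `e : f ≅ f'`. -/
abbrev congrIso : BasedFunctor.comp x₁ f' ≅ BasedFunctor.comp x₂ f' :=
  (wl x₁ e).symm ≪≫ φ ≪≫ wl x₂ e

/-- Components of an isomorphism of based functors. -/
def appIso {C : Type u} [Category.{v} C] {𝒳 : BasedCategory.{v₁, w₁} C} {𝒴 : BasedCategory.{v₂, w₂} C}
    {f f' : 𝒳 ⥤ᵇ 𝒴} (e : f ≅ f') (x : 𝒳.obj) : f.obj x ≅ f'.obj x where
  hom := e.hom.toNatTrans.app x
  inv := e.inv.toNatTrans.app x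
  hom_inv_id := by
    have := congrArg (fun t => t.toNatTrans) e.hom_inv_id
    exact congrArg (fun t => t.app x) this
  inv_hom_id := by
    have := congrArg (fun t => t.toNatTrans) e.inv_hom_id
    exact congrArg (fun t => t.app x) this

theorem appIso_nat {C : Type u} [Category.{v} C] {𝒳 : BasedCategory.{v₁, w₁} C} {𝒴 : BasedCategory.{v₂, w₂} C}
    {f f' : 𝒳 ⥤ᵇ 𝒴} (e : f ≅ f') {x x' : 𝒳.obj} (m : x ⟶ x') :
    f.map m ≫ (appIso e x').hom = (appIso e x).hom ≫ f'.map m :=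
  e.hom.toNatTrans.naturality m

theorem congrIso_app (a : (FibCat.overCat U).obj) : (congrIso e x₁ x₂ φ).hom.toNatTrans.app a =
    (appIso e (x₁.obj a)).inv ≫ φ.hom.toNatTrans.app a ≫ (appIso e (x₂.obj a)).hom := rfl

/-- Sections of `Isom_f(x₁, x₂; φ)` are sections of `Isom_{f'}(x₁, x₂; φ')`. -/
def congrEquiv (T : Over S) : Sec f x₁ x₂ φ T ≃ Sec f' x₁ x₂ (congrIso e x₁ x₂ φ) T where
  toFun s :=
    { u := s.u
      ψ := s.ψ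
      lift := s.lift
      comp := by
        rw [congrIso_app, ← s.comp]
        have h : f.map s.ψ ≫ (appIso e (x₂.obj (pt s.u))).hom = (appIso e (x₁.obj (pt s.u))).hom ≫ f'.map s.ψ :=
          appIso_nat e s.ψ
        rw [h, Iso.inv_hom_id_assoc] }
  invFun s :=
    { u := s.u
      ψ := s.ψ
      lift := s.lift
      comp := by
        have h : f.map s.ψ ≫ (appIso e (x₂.obj (pt s.u))).hom = (appIso e (x₁.obj (pt s.u))).hom ≫ f'.map s.ψ :=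
          appIso_nat e s.ψ
        have h2 := s.comp
        rw [congrIso_app] at h2
        rw [h2, Iso.hom_inv_id_assoc] at h
        exact (cancel_mono _).1 h }
  left_inv s := rfl
  right_inv s := rfl

include e in
/-- The diagonals of isomorphic functors (every `P`). -/
theorem repByAlgSpWith_diag_congr {P : MorphismProperty (AlgSp.Sp S)} (h𝒳 : FibCat.IsFibGrpd 𝒳.p)
    (h𝒴 : FibCat.IsFibGrpd 𝒴.p) (h : AlgSt.RepByAlgSpWith P (FibCat.diag f')) :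
    AlgSt.RepByAlgSpWith P (FibCat.diag f) := by
  rw [repByAlgSpWith_diag_iff P _ h𝒳 h𝒴] at h ⊢
  intro U x₁ x₂ φ
  let ι : psh f x₁ x₂ φ h𝒳 h𝒴 ≅ psh f' x₁ x₂ (congrIso e x₁ x₂ φ) h𝒳 h𝒴 :=
    isoOf _ _ _ _ (congrEquiv e x₁ x₂ φ) (fun T T' t s s' h => h)
  refine (h U x₁ x₂ (congrIso e x₁ x₂ φ)).of_iso ι.symm ?_
  have : ι.hom ≫ toBase f' x₁ x₂ (congrIso e x₁ x₂ φ) h𝒳 h𝒴 = toBase f x₁ x₂ φ h𝒳 h𝒴 := by
    ext T s
    rfl
  rw [← this, Iso.symm_hom, Iso.inv_hom_id_assoc]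

end Congr

section Comp

variable {S : Scheme.{u}} {𝒳 : BasedCategory.{u, w} (Over S)} {𝒴 : BasedCategory.{u, w'} (Over S)}
  {𝒵 : BasedCategory.{v₁, w₁} (Over S)} {P Q R : MorphismProperty (AlgSp.Sp S)}
  (h𝒳 : FibCat.IsFibGrpd 𝒳.p) (h𝒴 : FibCat.IsFibGrpd 𝒴.p) (h𝒵 : FibCat.IsFibGrpd 𝒵.p)
  (f : 𝒳 ⥤ᵇ 𝒴) (g : 𝒴 ⥤ᵇ 𝒵)

/-- `Isom_{f ⋙ g}(x₁, x₂; θ) ⟶ Isom_g(f x₁, f x₂; θ)` is representable with `P` when `diag f` is (`P` invariant
under isomorphisms of the source). -/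
theorem repBySpWith_compMap (hP : IsoInv P) {U : Over S} (x₁ x₂ : FibCat.overCat U ⥤ᵇ 𝒳)
    (θ : BasedFunctor.comp x₁ (BasedFunctor.comp f g) ≅ BasedFunctor.comp x₂ (BasedFunctor.comp f g))
    (hf : AlgSt.RepByAlgSpWith P (FibCat.diag f)) :
    AlgSp.RepBySpWith P (compMap f g x₁ x₂ θ h𝒳 h𝒴 h𝒵) := by
  rw [repByAlgSpWith_diag_iff P f h𝒳 h𝒴] at hf
  intro V ξ F' fst snd sq
  obtain ⟨k, φ, hφ, rfl⟩ := exists_ptMap f g x₁ x₂ θ h𝒴 h𝒵 ξ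
  have sq' := isPullback_comp f g k x₁ x₂ θ h𝒳 h𝒴 h𝒵 φ hφ
  have h1 := hf V _ _ φ
  refine (repPsh_iff hP snd).1 (h1.of_iso (sq'.isoIsPullback _ _ sq) ?_)
  exact IsPullback.isoIsPullback_hom_snd _ _ _ _

include h𝒳 h𝒴 h𝒵 in
/-- The diagonal of a composite. -/
theorem repByAlgSpWith_diag_comp (hPb : BC P) (hPc : Comp P) (hPe : EtDesc P)
    (hf : AlgSt.RepByAlgSpWith P (FibCat.diag f)) (hg : AlgSt.RepByAlgSpWith P (FibCat.diag g)) :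
    AlgSt.RepByAlgSpWith P (FibCat.diag (BasedFunctor.comp f g)) := by
  rw [repByAlgSpWith_diag_iff P _ h𝒳 h𝒵]
  intro U x₁ x₂ θ
  rw [← compMap_toBase f g x₁ x₂ θ h𝒳 h𝒴 h𝒵]
  exact repPsh_comp hPb hPc hPe _ _
    (repBySpWith_compMap h𝒳 h𝒴 h𝒵 f g (isoInv_of_baseChange P hPb) x₁ x₂ θ hf)
    ((repByAlgSpWith_diag_iff P g h𝒴 h𝒵).1 hg U _ _ (assocIso f g x₁ x₂ θ))

end Comp

section Cancel

variable {S : Scheme.{u}} {𝒳 : BasedCategory.{u, w} (Over S)} {𝒴 : BasedCategory.{u, w'} (Over S)}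
  {𝒵 : BasedCategory.{v₁, w₁} (Over S)}
  (f : 𝒳 ⥤ᵇ 𝒴) (g : 𝒴 ⥤ᵇ 𝒵) {U : Over S} (x₁ x₂ : FibCat.overCat U ⥤ᵇ 𝒳)
  (φ : BasedFunctor.comp x₁ f ≅ BasedFunctor.comp x₂ f)
  (h𝒳 : FibCat.IsFibGrpd 𝒳.p) (h𝒴 : FibCat.IsFibGrpd 𝒴.p) (h𝒵 : FibCat.IsFibGrpd 𝒵.p)

/-- `φ` followed by `g`. -/
abbrev whIso : BasedFunctor.comp x₁ (BasedFunctor.comp f g) ≅ BasedFunctor.comp x₂ (BasedFunctor.comp f g) :=
  (wr φ g : BasedFunctor.comp (BasedFunctor.comp x₁ f) g ≅ BasedFunctor.comp (BasedFunctor.comp x₂ f) g)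

/-- The map `Isom_f(x₁, x₂; φ) ⟶ Isom_{f ⋙ g}(x₁, x₂; g φ)`. -/
noncomputable def inclMap : psh f x₁ x₂ φ h𝒳 h𝒴 ⟶
    psh (BasedFunctor.comp f g) x₁ x₂ (whIso f g x₁ x₂ φ) h𝒳 h𝒵 :=
  homOf _ _ _ _ (fun T s =>
    { u := s.u
      ψ := s.ψ
      lift := s.lift
      comp := congrArg g.map s.comp }) (fun T T' t s s' h => h)

/-- The point of `Isom_g(f x₁, f x₂; g φ)` given by `φ`. -/
noncomputable def secMap : (AlgSp.pyon S).obj U ⟶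
    psh g (BasedFunctor.comp x₁ f) (BasedFunctor.comp x₂ f) (assocIso f g x₁ x₂ (whIso f g x₁ x₂ φ)) h𝒴 h𝒵 where
  app T := ↾fun v =>
    { u := v.down
      ψ := φ.hom.toNatTrans.app (pt v.down)
      lift := φ.hom.isHomLift' (pt v.down)
      comp := rfl }
  naturality T T' t := by
    ext v
    refine ((map_eq_iff h𝒴 h𝒵 t.unop _ _).2 ⟨rfl, ?_⟩).symm
    exact φ.hom.toNatTrans.naturality (arr t.unop rfl : pt (t.unop ≫ v.down) ⟶ pt v.down)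

theorem secMap_toBase : secMap f g x₁ x₂ φ h𝒴 h𝒵 ≫ toBase g _ _ _ h𝒴 h𝒵 = 𝟙 _ := by
  ext T v
  rfl

theorem isPullback_cancel : IsPullback (inclMap f g x₁ x₂ φ h𝒳 h𝒴 h𝒵) (toBase f x₁ x₂ φ h𝒳 h𝒴)
    (compMap f g x₁ x₂ (whIso f g x₁ x₂ φ) h𝒳 h𝒴 h𝒵) (secMap f g x₁ x₂ φ h𝒴 h𝒵) := by
  apply isPullback_psh
  · intro T s
    exact sec_ext s.comp
  · intro T s s' h1 h2
    obtain ⟨v, ψ, hl, hc⟩ := s
    obtain ⟨v', ψ', hl', hc'⟩ := s'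
    obtain rfl : v = v' := congrArg ULift.down h2
    refine sec_ext ?_
    have h3 := h1
    injection h3
  · rintro T ⟨u, ψ, hl, hc⟩ ⟨v⟩ h
    have h3 := h
    injection h3 with h4 h5
    subst h4
    have h6 : f.map ψ = φ.hom.toNatTrans.app (pt u) := eq_of_heq h5
    exact ⟨(⟨u, ψ, hl, h6⟩ : Sec f x₁ x₂ φ T), rfl, rfl⟩

include h𝒳 h𝒴 h𝒵 in
/-- Cancellation for diagonals: if `diag (f ⋙ g)` has `P` and `diag g` has `Q`, then `diag f` has `R`, provided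
`P (a ≫ b)` and `Q b` imply `R a` and `R` is stable under base change. -/
theorem repByAlgSpWith_diag_of_comp {P Q R : MorphismProperty (AlgSp.Sp S)} (hP : IsoInv P) (hQ : IsoInv Q)
    (hRb : BC R)
    (hR : ∀ ⦃X Y Z : AlgSp.Sp S⦄, AlgSp.IsAlgSpace X → AlgSp.IsAlgSpace Y → AlgSp.IsAlgSpace Z →
      ∀ (a : X ⟶ Y) (b : Y ⟶ Z), P (a ≫ b) → Q b → R a)
    (hfg : AlgSt.RepByAlgSpWith P (FibCat.diag (BasedFunctor.comp f g)))
    (hg : AlgSt.RepByAlgSpWith Q (FibCat.diag g)) : AlgSt.RepByAlgSpWith R (FibCat.diag f) := by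
  rw [repByAlgSpWith_diag_iff R _ h𝒳 h𝒴]
  intro U x₁ x₂ φ
  obtain ⟨h1, h2, h3⟩ := (repPsh_iff hP _).1
    ((repByAlgSpWith_diag_iff P _ h𝒳 h𝒵).1 hfg U x₁ x₂ (whIso f g x₁ x₂ φ))
  obtain ⟨k1, k2, k3⟩ := (repPsh_iff hQ _).1
    ((repByAlgSpWith_diag_iff Q g h𝒴 h𝒵).1 hg U _ _ (assocIso f g x₁ x₂ (whIso f g x₁ x₂ φ)))
  have sq := isPullback_cancel f g x₁ x₂ φ h𝒳 h𝒴 h𝒵
  have hF : Presheaf.IsSheaf (AlgSp.J S) (psh f x₁ x₂ φ h𝒳 h𝒴) :=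
    AlgSp.isSheaf_of_isPullback (F := ⟨_, h1⟩) (G := ⟨_, k1⟩) (H := (AlgSp.yon S).obj U) sq
  have sq' := isPullback_homMk sq hF h1 ((AlgSp.yon S).obj U).property k1
  have hFA : AlgSp.IsAlgSpace (⟨_, hF⟩ : AlgSp.Sp S) :=
    K606.RepBySp.isAlgSpace_of_isPullback_of_diag h2 (AlgSp.IsAlgSpace.yon_obj U) k2.diag sq'
  refine repPsh_of _ hF hFA ?_
  have h4 : R (ObjectProperty.homMk (compMap f g x₁ x₂ (whIso f g x₁ x₂ φ) h𝒳 h𝒴 h𝒵) :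
      (⟨_, h1⟩ : AlgSp.Sp S) ⟶ ⟨_, k1⟩) := by
    refine hR h2 k2 (AlgSp.IsAlgSpace.yon_obj U) _
      (ObjectProperty.homMk (toBase g (BasedFunctor.comp x₁ f) (BasedFunctor.comp x₂ f)
        (assocIso f g x₁ x₂ (whIso f g x₁ x₂ φ)) h𝒴 h𝒵) : (⟨_, k1⟩ : AlgSp.Sp S) ⟶ (AlgSp.yon S).obj U) ?_ k3
    convert h3 using 1
    apply ObjectProperty.hom_ext
    exact compMap_toBase f g x₁ x₂ (whIso f g x₁ x₂ φ) h𝒳 h𝒴 h𝒵
  exact hRb h2 k2 hFA (AlgSp.IsAlgSpace.yon_obj U) _ _ _ _ sq' h4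

end Cancel

end K739.DiagComp
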