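import Groth.Agent.AlgSt.K739.Rep

/-!
# The presheaf `Isom_f(x₁, x₂; φ)` and base changes of the diagonal

For `f : 𝒳 ⥤ᵇ 𝒴` (both fibred in groupoids), `x₁ x₂ : overCat U ⥤ᵇ 𝒳` and `φ : x₁ ⋙ f ≅ x₂ ⋙ f`, the presheaf
`K739.Isom.psh f x₁ x₂ φ` has as sections over `T` the pairs of `u : T ⟶ U` and `ψ : x₁(u) ⟶ x₂(u)` over `𝟙 T` with
`f ψ = φ_u`.  `K739.Isom.toFp` is an equivalence from the associated category to `fp (fpLift x₁ x₂ φ) (diag f)`.
-/

set_option autoImplicit false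
set_option backward.isDefEq.respectTransparency false
set_option backward.isDefEq.respectTransparency.types false

universe w₃ v₃ w₂ v₂ w₁ v₁ w' v' w v u

open CategoryTheory CategoryTheory.Limits AlgebraicGeometry Opposite

namespace K739.Isom

open K739.Psh K739.Rep

variable {S : Scheme.{u}} {𝒳 : BasedCategory.{u, w} (Over S)} {𝒴 : BasedCategory.{v', w'} (Over S)}
  (f : 𝒳 ⥤ᵇ 𝒴) {U : Over S} (x₁ x₂ : FibCat.overCat U ⥤ᵇ 𝒳)
  (φ : BasedFunctor.comp x₁ f ≅ BasedFunctor.comp x₂ f)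

/-- The object `u : T ⟶ U` of `overCat U`. -/
abbrev pt {U T : Over S} (u : T ⟶ U) : (FibCat.overCat U).obj := Over.mk u

/-- A morphism of `overCat U`. -/
abbrev arr {U T T' : Over S} {u : T ⟶ U} {u' : T' ⟶ U} (t : T' ⟶ T) (h : t ≫ u = u') : pt u' ⟶ pt u :=
  Over.homMk t h

/-- Sections of `Isom_f(x₁, x₂; φ)`. -/
structure Sec (T : Over S) : Type (u + 1) where
  /-- the point of `U` -/
  u : T ⟶ U
  /-- the isomorphism -/
  ψ : x₁.obj (pt u) ⟶ x₂.obj (pt u)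
  lift : 𝒳.p.IsHomLift (𝟙 T) ψ
  comp : f.map ψ = φ.hom.toNatTrans.app (pt u)

variable {f x₁ x₂ φ}

/-- `s'` is the restriction of `s` along `t`. -/
def IsRes {T T' : Over S} (t : T' ⟶ T) (s : Sec f x₁ x₂ φ T) (s' : Sec f x₁ x₂ φ T') : Prop :=
  ∃ h : t ≫ s.u = s'.u, x₁.map (arr t h) ≫ s.ψ = s'.ψ ≫ x₂.map (arr t h)

theorem IsRes.id {T : Over S} (s : Sec f x₁ x₂ φ T) : IsRes (𝟙 T) s s := by
  refine ⟨Category.id_comp _, ?_⟩
  have : (arr (𝟙 T) (Category.id_comp s.u) : pt s.u ⟶ pt s.u) = 𝟙 _ := by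
    apply Over.OverMorphism.ext
    rfl
  rw [this]
  erw [x₁.map_id, x₂.map_id]
  rw [Category.id_comp, Category.comp_id]

theorem IsRes.comp {T T' T'' : Over S} {t : T' ⟶ T} {t' : T'' ⟶ T'} {s : Sec f x₁ x₂ φ T}
    {s' : Sec f x₁ x₂ φ T'} {s'' : Sec f x₁ x₂ φ T''} (h : IsRes t s s') (h' : IsRes t' s' s'') :
    IsRes (t' ≫ t) s s'' := by
  obtain ⟨h1, h2⟩ := h
  obtain ⟨h3, h4⟩ := h'
  have h5 : (t' ≫ t) ≫ s.u = s''.u := by rw [Category.assoc, h1, h3]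
  refine ⟨h5, ?_⟩
  have : arr (t' ≫ t) h5 = arr t' h3 ≫ arr t h1 := by
    apply Over.OverMorphism.ext
    rfl
  rw [this]
  erw [x₁.map_comp, x₂.map_comp]
  rw [Category.assoc, h2, ← Category.assoc, h4, Category.assoc]

theorem IsRes.unique (h𝒳 : FibCat.IsFibGrpd 𝒳.p) {T T' : Over S} {t : T' ⟶ T} {s : Sec f x₁ x₂ φ T}
    {s' s'' : Sec f x₁ x₂ φ T'} (h : IsRes t s s') (h' : IsRes t s s'') : s' = s'' := by
  obtain ⟨h1, h2⟩ := h
  obtain ⟨h3, h4⟩ := h'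
  obtain ⟨u', ψ', hl', hc'⟩ := s'
  obtain ⟨u'', ψ'', hl'', hc''⟩ := s''
  dsimp only at h1 h2 h3 h4
  subst h1
  obtain rfl : t ≫ s.u = u'' := h3
  have : ψ' = ψ'' := cancel_id h𝒳 (x₂.map (arr t rfl)) ψ' ψ'' hl' hl'' (h2.symm.trans h4)
  subst this
  rfl

theorem exists_isRes (h𝒳 : FibCat.IsFibGrpd 𝒳.p) (h𝒴 : FibCat.IsFibGrpd 𝒴.p) {T T' : Over S} (t : T' ⟶ T)
    (s : Sec f x₁ x₂ φ T) : ∃ s' : Sec f x₁ x₂ φ T', IsRes t s s' := by
  have hs := s.lift
  let a : pt (t ≫ s.u) ⟶ pt s.u := arr t rfl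
  have ha : (FibCat.overCat U).p.IsHomLift t a := IsHomLift.map (FibCat.overCat U).p a
  have ha₁ : 𝒳.p.IsHomLift t (x₁.map a) := BasedFunctor.preserves_isHomLift x₁ _ _
  have ha₂ : 𝒳.p.IsHomLift t (x₂.map a) := BasedFunctor.preserves_isHomLift x₂ _ _
  have hc : 𝒳.p.IsHomLift (𝟙 T' ≫ t) (x₁.map a ≫ s.ψ) := by
    rw [Category.id_comp]
    infer_instance
  obtain ⟨ψ', hψ', hψ⟩ := exists_fac h𝒳 t (x₂.map a) (𝟙 T') (x₁.map a ≫ s.ψ) hc
  refine ⟨⟨t ≫ s.u, ψ', hψ', ?_⟩, rfl, hψ.symm⟩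
  have hφ : 𝒴.p.IsHomLift (𝟙 T') (φ.hom.toNatTrans.app (pt (t ≫ s.u))) :=
    φ.hom.isHomLift' (pt (t ≫ s.u))
  have hfψ : 𝒴.p.IsHomLift (𝟙 T') (f.map ψ') := BasedFunctor.preserves_isHomLift f _ _
  refine cancel_id h𝒴 (f.map (x₂.map a)) _ _ hfψ hφ ?_
  have n := φ.hom.toNatTrans.naturality a
  change f.map (x₁.map a) ≫ _ = _ ≫ f.map (x₂.map a) at n
  rw [← f.map_comp, hψ, f.map_comp, s.comp]
  exact n

variable (f x₁ x₂ φ)

/-- The presheaf `Isom_f(x₁, x₂; φ)`. -/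
noncomputable def psh (h𝒳 : FibCat.IsFibGrpd 𝒳.p) (h𝒴 : FibCat.IsFibGrpd 𝒴.p) : AlgSp.PSp S where
  obj T := Sec f x₁ x₂ φ T.unop
  map {T T'} t := ↾fun s => (exists_isRes h𝒳 h𝒴 t.unop s).choose
  map_id T := by
    ext s
    exact ((exists_isRes h𝒳 h𝒴 (𝟙 T.unop) s).choose_spec).unique h𝒳 (IsRes.id s)
  map_comp {T T' T''} t t' := by
    ext s
    have h1 := (exists_isRes h𝒳 h𝒴 t.unop s).choose_spec
    have h2 := (exists_isRes h𝒳 h𝒴 t'.unop (exists_isRes h𝒳 h𝒴 t.unop s).choose).choose_spec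
    exact ((exists_isRes h𝒳 h𝒴 (t ≫ t').unop s).choose_spec).unique h𝒳 (h1.comp h2)

variable (h𝒳 : FibCat.IsFibGrpd 𝒳.p) (h𝒴 : FibCat.IsFibGrpd 𝒴.p)

variable {f x₁ x₂ φ} in
theorem map_eq_iff {T T' : Over S} (t : T' ⟶ T) (s : Sec f x₁ x₂ φ T) (s' : Sec f x₁ x₂ φ T') :
    (psh f x₁ x₂ φ h𝒳 h𝒴).map t.op s = s' ↔ IsRes t s s' := by
  have h := (exists_isRes h𝒳 h𝒴 t s).choose_spec
  constructor
  · intro e
    rw [← e]
    exact h
  · intro e
    exact h.unique h𝒳 e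

/-- The map to `h_U`. -/
noncomputable def toBase : psh f x₁ x₂ φ h𝒳 h𝒴 ⟶ (AlgSp.pyon S).obj U where
  app T := ↾fun s => ⟨s.u⟩
  naturality T T' t := by
    ext s
    have := ((exists_isRes h𝒳 h𝒴 t.unop s).choose_spec).1
    exact congrArg ULift.up this.symm

theorem toBase_app {T : Over S} (s : Sec f x₁ x₂ φ T) :
    (toBase f x₁ x₂ φ h𝒳 h𝒴).app (op T) s = ⟨s.u⟩ := rfl

section ToFp

/-- Constructor for isomorphisms of `fp F G` from isomorphisms of the components. -/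
def fpMkIso {𝒜 : BasedCategory.{v₁, w₁} (Over S)} {ℬ : BasedCategory.{v₂, w₂} (Over S)}
    {𝒟 : BasedCategory.{v₃, w₃} (Over S)} {F : 𝒜 ⥤ᵇ 𝒟} {G : ℬ ⥤ᵇ 𝒟} {a b : (FibCat.fp F G).obj}
    (i : a.obj.fst ≅ b.obj.fst) (j : a.obj.snd ≅ b.obj.snd)
    (h : F.map i.hom ≫ b.obj.iso.hom = a.obj.iso.hom ≫ G.map j.hom) : a ≅ b where
  hom := ObjectProperty.homMk { fst := i.hom, snd := j.hom, w := h }
  inv := ObjectProperty.homMk
    { fst := i.inv, snd := j.inv,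
      w := by
        have h1 : F.map i.inv ≫ F.map i.hom = 𝟙 _ := by rw [← F.map_comp, i.inv_hom_id, F.map_id]
        have h2 : G.map j.hom ≫ G.map j.inv = 𝟙 _ := by rw [← G.map_comp, j.hom_inv_id, G.map_id]
        have h3 : F.map i.inv ≫ (F.map i.hom ≫ b.obj.iso.hom) ≫ G.map j.inv =
          F.map i.inv ≫ (a.obj.iso.hom ≫ G.map j.hom) ≫ G.map j.inv := by rw [h]
        rw [Category.assoc, Category.assoc, h2, Category.comp_id, ← Category.assoc, ← Category.assoc, h1,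
          Category.id_comp] at h3
        exact h3.symm }
  hom_inv_id := by
    apply ObjectProperty.hom_ext; apply CategoricalPullback.hom_ext
    · exact i.hom_inv_id
    · exact j.hom_inv_id
  inv_hom_id := by
    apply ObjectProperty.hom_ext; apply CategoricalPullback.hom_ext
    · exact i.inv_hom_id
    · exact j.inv_hom_id

theorem y_eq (y : FibCat.overCat U ⥤ᵇ FibCat.fp f f) :
    y = FibCat.fpLift (BasedFunctor.comp y (FibCat.fpFst f f)) (BasedFunctor.comp y (FibCat.fpSnd f f))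
      (wl y (FibCat.fpIso f f)) := rfl

variable {f x₁ x₂ φ} in
/-- The isomorphism underlying a section. -/
noncomputable def Sec.iso {T : Over S} (s : Sec f x₁ x₂ φ T) : x₁.obj (pt s.u) ≅ x₂.obj (pt s.u) :=
  haveI := s.lift
  haveI := isIso_of_id h𝒳 (R := T) s.ψ
  asIso s.ψ

variable {f x₁ x₂ φ} in
theorem Sec.iso_hom {T : Over S} (s : Sec f x₁ x₂ φ T) : (s.iso h𝒳).hom = s.ψ := rfl

/-- The functor from the category of `Isom_f(x₁, x₂; φ)` to the base change of the diagonal. -/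
noncomputable def toFp : Stk.ofPsh (psh f x₁ x₂ φ h𝒳 h𝒴) ⥤ᵇ
    FibCat.fp (FibCat.fpLift x₁ x₂ φ) (FibCat.diag f) where
  toFunctor :=
    { obj := fun a =>
        ⟨{ fst := pt (Sec.u a.sec)
           snd := x₂.obj (pt (Sec.u a.sec))
           iso := fpMkIso (Sec.iso h𝒳 a.sec) (Iso.refl _) (by
            change f.map (Sec.ψ a.sec) ≫ 𝟙 _ = φ.hom.toNatTrans.app _ ≫ f.map (𝟙 _)
            rw [Sec.comp, f.map_id]) },
          by
            have := (Sec.lift a.sec)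
            change (FibCat.fp f f).p.IsHomLift (𝟙 _) _
            exact (BasedFunctor.isHomLift_iff (FibCat.fpFst f f) _ _).1 this⟩
      map := fun {a' a} t => ObjectProperty.homMk
        { fst := arr t.hom ((map_eq_iff h𝒳 h𝒴 _ _ _).1 t.map_sec).1
          snd := x₂.map (arr t.hom ((map_eq_iff h𝒳 h𝒴 _ _ _).1 t.map_sec).1)
          w := by
            apply ObjectProperty.hom_ext; apply CategoricalPullback.hom_ext
            · exact ((map_eq_iff h𝒳 h𝒴 _ _ _).1 t.map_sec).2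
            · change x₂.map _ ≫ 𝟙 _ = 𝟙 _ ≫ x₂.map _
              simp }
      map_id := fun a => by
        apply ObjectProperty.hom_ext; apply CategoricalPullback.hom_ext
        · apply Over.OverMorphism.ext
          rfl
        · exact x₂.map_id _
      map_comp := fun {a a' a''} t t' => by
        apply ObjectProperty.hom_ext; apply CategoricalPullback.hom_ext
        · apply Over.OverMorphism.ext
          rfl
        · exact x₂.map_comp (arr t.hom _) (arr t'.hom _) }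
  w := rfl

theorem isEquivOver_toFp : FibCat.IsEquivOver (toFp f x₁ x₂ φ h𝒳 h𝒴) := by
  apply isEquivOver_of
  · constructor
    intro a' a m
    have hw := m.hom.w
    have h₁ : x₁.map m.hom.fst ≫ Sec.ψ a.sec = Sec.ψ a'.sec ≫ m.hom.snd :=
      congrArg (fun t => t.hom.fst) hw
    have h₂ : x₂.map m.hom.fst = m.hom.snd := by
      have : x₂.map m.hom.fst ≫ 𝟙 _ = 𝟙 _ ≫ m.hom.snd := congrArg (fun t => t.hom.snd) hw
      simpa using this
    have hu : m.hom.fst.left ≫ Sec.u a.sec = Sec.u a'.sec := Over.w m.hom.fst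
    have hm : arr m.hom.fst.left hu = m.hom.fst := by
      apply Over.OverMorphism.ext
      rfl
    have hr : IsRes m.hom.fst.left a.sec a'.sec := ⟨hu, by rw [hm, h₁, h₂]⟩
    refine ⟨⟨m.hom.fst.left, (map_eq_iff h𝒳 h𝒴 _ _ _).2 hr⟩, ?_⟩
    apply ObjectProperty.hom_ext; apply CategoricalPullback.hom_ext
    · exact hm
    · change x₂.map (arr m.hom.fst.left _) = _
      rw [← h₂]
      exact congrArg x₂.map hm
  · constructor
    intro a' a m m' h
    apply Stk.EltObj.hom_ext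
    exact congrArg (fun t => t.hom.fst.left) h
  · intro b
    obtain ⟨⟨a, x, i⟩, hb⟩ := b
    change (FibCat.fp f f).p.IsHomLift (𝟙 a.left) i.hom at hb
    have hi₁ : 𝒳.p.IsHomLift (𝟙 a.left) i.hom.hom.fst :=
      (BasedFunctor.isHomLift_iff (FibCat.fpFst f f) (𝟙 a.left) i.hom).2 hb
    have hi₂ : 𝒳.p.IsHomLift (𝟙 a.left) i.hom.hom.snd :=
      (BasedFunctor.isHomLift_iff (FibCat.fpSnd f f) (𝟙 a.left) i.hom).2 hb
    have hI₁ : IsIso i.hom.hom.fst := isIso_of_id h𝒳 (R := a.left) _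
    have hI₂ : IsIso i.hom.hom.snd := isIso_of_id h𝒳 (R := a.left) _
    have hc : f.map i.hom.hom.fst ≫ 𝟙 _ = φ.hom.toNatTrans.app a ≫ f.map i.hom.hom.snd := i.hom.hom.w
    let s : Sec f x₁ x₂ φ a.left :=
      { u := a.hom
        ψ := i.hom.hom.fst ≫ inv i.hom.hom.snd
        lift := inferInstance
        comp := by
          rw [f.map_comp, Functor.map_inv, IsIso.comp_inv_eq]
          exact (Category.comp_id _).symm.trans hc }
    refine ⟨⟨a.left, s⟩, fpMkIso (Iso.refl _) (asIso i.hom.hom.snd) ?_, ?_⟩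
    · apply ObjectProperty.hom_ext; apply CategoricalPullback.hom_ext
      · change x₁.map (𝟙 _) ≫ i.hom.hom.fst = (i.hom.hom.fst ≫ inv i.hom.hom.snd) ≫ i.hom.hom.snd
        rw [x₁.map_id, Category.assoc, IsIso.inv_hom_id, Category.comp_id, Category.id_comp]
      · exact congrArg (fun t => t ≫ i.hom.hom.snd) (x₂.map_id a)
    · refine isHomLift_of_map_eq _ _ _ ?_
      rfl

theorem prMap_toFp : prMap (BasedFunctor.comp (toFp f x₁ x₂ φ h𝒳 h𝒴) (FibCat.fpFst _ _)) =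
    toBase f x₁ x₂ φ h𝒳 h𝒴 := by
  ext T s
  apply ULift.ext
  change 𝟙 _ ≫ Sec.u s = Sec.u s
  simp

end ToFp

end K739.Isom
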