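import Groth.Agent.AlgSt.K739.Psh

/-!
# Representability by algebraic spaces over `(Sch/U)`: transfer lemmas

* `K739.Rep.RepAt P q` for `q : 𝒲 ⥤ᵇ overCat U`: `𝒲` is representable by an algebraic space `F` with `F ⟶ h_U` in `P`.
  `RepByAlgSpWith P f` is `∀ U y, RepAt P (fpFst y f)` (`repByAlgSpWith_iff`).
* `RepAt.of_equiv`: invariance under equivalences over `overCat U` (any `P`).
* `repAt_ofPsh_iff`: for `𝒲 = ofPsh G`, `RepAt P q` says that the presheaf `G` is an algebraic space and `G ⟶ h_U` has `P`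
  (`P` invariant under isomorphisms of the source between algebraic spaces).
-/

set_option autoImplicit false
set_option backward.isDefEq.respectTransparency false
set_option backward.isDefEq.respectTransparency.types false

universe w₃ v₃ w₂ v₂ w₁ v₁ w' v' w v u

open CategoryTheory CategoryTheory.Limits AlgebraicGeometry Opposite

namespace K739.Rep

open K739.Psh

variable {S : Scheme.{u}}

/-- `P` is invariant under isomorphisms of the source between algebraic spaces. -/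
def IsoInv (P : MorphismProperty (AlgSp.Sp S)) : Prop :=
  ∀ ⦃X X' Y : AlgSp.Sp S⦄, AlgSp.IsAlgSpace X → AlgSp.IsAlgSpace X' → AlgSp.IsAlgSpace Y →
    ∀ (i : X' ≅ X) (a : X ⟶ Y), P a → P (i.hom ≫ a)

theorem isoInv_of_respectsIso (P : MorphismProperty (AlgSp.Sp S)) [P.RespectsIso] : IsoInv P :=
  fun _ _ _ _ _ _ i a ha => (MorphismProperty.cancel_left_of_respectsIso P i.hom a).2 ha

theorem isoInv_of_baseChange (P : MorphismProperty (AlgSp.Sp S))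
    (hPb : ∀ ⦃X₁ Y₁ X₂ Y₂ : AlgSp.Sp S⦄, AlgSp.IsAlgSpace X₁ → AlgSp.IsAlgSpace Y₁ →
      AlgSp.IsAlgSpace X₂ → AlgSp.IsAlgSpace Y₂ → ∀ (a : X₁ ⟶ Y₁) (b : Y₂ ⟶ Y₁) (a' : X₂ ⟶ Y₂) (b' : X₂ ⟶ X₁),
        IsPullback b' a' a b → P a → P a') : IsoInv P :=
  fun X X' Y hX hX' hY i a ha => hPb hX hY hX' hY a (𝟙 Y) (i.hom ≫ a) i.hom
    (IsPullback.of_horiz_isIso ⟨by simp⟩) ha

/-- `spMapOfOver` for presheaves. -/
def prMap {G : AlgSp.PSp S} {U : Over S} (q : Stk.ofPsh G ⥤ᵇ FibCat.overCat U) : G ⟶ (AlgSp.pyon S).obj U :=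
  pshMap (BasedFunctor.comp q (AlgSt.ofOverCat U))

theorem spMapOfOver_hom {F : AlgSp.Sp S} {U : Over S} (q : AlgSt.ofSp F ⥤ᵇ FibCat.overCat U) :
    (AlgSt.spMapOfOver q).hom = prMap q := by
  ext T x
  rfl

theorem prMap_congr {G : AlgSp.PSp S} {U : Over S} {q q' : Stk.ofPsh G ⥤ᵇ FibCat.overCat U} (e : q ≅ q') :
    prMap q = prMap q' :=
  pshMap_congr (wr e (AlgSt.ofOverCat U))

theorem prMap_comp {G G' : AlgSp.PSp S} {U : Over S} (Φ : Stk.ofPsh G' ⥤ᵇ Stk.ofPsh G)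
    (q : Stk.ofPsh G ⥤ᵇ FibCat.overCat U) :
    prMap (BasedFunctor.comp Φ q) = pshMap Φ ≫ prMap q :=
  pshMap_comp Φ (BasedFunctor.comp q (AlgSt.ofOverCat U))

theorem prMap_app {G : AlgSp.PSp S} {U : Over S} (q : Stk.ofPsh G ⥤ᵇ FibCat.overCat U) (T : Over S)
    (x : G.obj (op T)) : (prMap q).app (op T) x =
      ⟨eqToHom (q.w_obj ⟨T, x⟩).symm ≫ (q.obj ⟨T, x⟩).hom⟩ := rfl

theorem spMapOfOver_congr {F : AlgSp.Sp S} {U : Over S} {q q' : AlgSt.ofSp F ⥤ᵇ FibCat.overCat U} (e : q ≅ q') :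
    AlgSt.spMapOfOver q = AlgSt.spMapOfOver q' := by
  apply ObjectProperty.hom_ext
  rw [spMapOfOver_hom, spMapOfOver_hom]
  exact prMap_congr e

/-- `𝒲` is representable by an algebraic space whose map to `h_U` has `P`. -/
def RepAt (P : MorphismProperty (AlgSp.Sp S)) {U : Over S} {𝒲 : BasedCategory.{v, w} (Over S)}
    (q : 𝒲 ⥤ᵇ FibCat.overCat U) : Prop :=
  ∃ (F : AlgSp.Space S) (e : AlgSt.ofSp F.obj ⥤ᵇ 𝒲),
    FibCat.IsEquivOver e ∧ P (AlgSt.spMapOfOver (BasedFunctor.comp e q))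

theorem repByAlgSpWith_iff (P : MorphismProperty (AlgSp.Sp S)) {𝒳 : BasedCategory.{v, w} (Over S)}
    {𝒴 : BasedCategory.{v', w'} (Over S)} (f : 𝒳 ⥤ᵇ 𝒴) :
    AlgSt.RepByAlgSpWith P f ↔ ∀ (U : Over S) (y : FibCat.overCat U ⥤ᵇ 𝒴), RepAt P (FibCat.fpFst y f) := Iff.rfl

theorem RepAt.mono {P Q : MorphismProperty (AlgSp.Sp S)} {U : Over S} {𝒲 : BasedCategory.{v, w} (Over S)}
    {q : 𝒲 ⥤ᵇ FibCat.overCat U} (h : RepAt P q)
    (hPQ : ∀ ⦃F : AlgSp.Sp S⦄ (a : F ⟶ (AlgSp.yon S).obj U), AlgSp.IsAlgSpace F → P a → Q a) : RepAt Q q := by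
  obtain ⟨F, e, he, hP⟩ := h
  exact ⟨F, e, he, hPQ _ F.property hP⟩

theorem RepAt.of_equiv {P : MorphismProperty (AlgSp.Sp S)} {U : Over S} {𝒲 : BasedCategory.{v, w} (Over S)}
    {𝒲' : BasedCategory.{v', w'} (Over S)} {q : 𝒲 ⥤ᵇ FibCat.overCat U} {q' : 𝒲' ⥤ᵇ FibCat.overCat U}
    (h : RepAt P q) (E : 𝒲 ⥤ᵇ 𝒲') (hE : FibCat.IsEquivOver E) (i : BasedFunctor.comp E q' ≅ q) : RepAt P q' := by
  obtain ⟨F, e, he, hP⟩ := h
  refine ⟨F, BasedFunctor.comp e E, isEquivOver_comp he hE, ?_⟩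
  have : AlgSt.spMapOfOver (BasedFunctor.comp (BasedFunctor.comp e E) q') =
      AlgSt.spMapOfOver (BasedFunctor.comp e q) :=
    spMapOfOver_congr (wl e i)
  rw [this]
  exact hP

theorem RepAt.of_equiv' {P : MorphismProperty (AlgSp.Sp S)} {U : Over S} {𝒲 : BasedCategory.{v, w} (Over S)}
    {𝒲' : BasedCategory.{v', w'} (Over S)} {q : 𝒲 ⥤ᵇ FibCat.overCat U} {q' : 𝒲' ⥤ᵇ FibCat.overCat U}
    (h : RepAt P q') (E : 𝒲 ⥤ᵇ 𝒲') (hE : FibCat.IsEquivOver E) (i : BasedFunctor.comp E q' ≅ q) : RepAt P q := by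
  obtain ⟨E', ⟨e₁⟩, ⟨e₂⟩⟩ := hE
  refine h.of_equiv E' (isEquivOver_symm e₁ e₂) ?_
  exact wl E' i.symm ≪≫ (wr e₂ q' : BasedFunctor.comp (BasedFunctor.comp E' E) q' ≅ _)

/-- For `𝒲 = ofPsh G`. -/
theorem repAt_ofPsh_iff {P : MorphismProperty (AlgSp.Sp S)} (hP : IsoInv P) {U : Over S} (G : AlgSp.PSp S)
    (q : Stk.ofPsh G ⥤ᵇ FibCat.overCat U) :
    RepAt P q ↔ ∃ h : Presheaf.IsSheaf (AlgSp.J S) G, AlgSp.IsAlgSpace (⟨G, h⟩ : AlgSp.Sp S) ∧
      P (ObjectProperty.homMk (prMap q) : (⟨G, h⟩ : AlgSp.Sp S) ⟶ (AlgSp.yon S).obj U) := by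
  constructor
  · rintro ⟨F, e, he, hPe⟩
    obtain ⟨α, hα⟩ := exists_pshIso e he
    have hG : Presheaf.IsSheaf (AlgSp.J S) G := (Presheaf.isSheaf_of_iso_iff α).1 F.obj.property
    let α' : F.obj ≅ (⟨G, hG⟩ : AlgSp.Sp S) :=
      (fullyFaithfulSheafToPresheaf (AlgSp.J S) _).preimageIso (X := F.obj) (Y := (⟨G, hG⟩ : AlgSp.Sp S)) α
    refine ⟨hG, F.property.of_iso α', ?_⟩
    have h1 := hP F.property (F.property.of_iso α') (AlgSp.IsAlgSpace.yon_obj U) α'.symm _ hPe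
    convert h1 using 1
    apply ObjectProperty.hom_ext
    change prMap q = α.inv ≫ (AlgSt.spMapOfOver (BasedFunctor.comp e q)).hom
    rw [spMapOfOver_hom, prMap_comp, ← hα, Iso.inv_hom_id_assoc]
  · rintro ⟨h, hA, hPq⟩
    refine ⟨⟨⟨G, h⟩, hA⟩, BasedFunctor.id _, isEquivOver_refl, ?_⟩
    convert hPq using 1
    apply ObjectProperty.hom_ext
    exact spMapOfOver_hom (F := (⟨G, h⟩ : AlgSp.Sp S)) q

theorem repAt_ofPsh_of {P : MorphismProperty (AlgSp.Sp S)} {U : Over S} {G : AlgSp.PSp S}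
    (q : Stk.ofPsh G ⥤ᵇ FibCat.overCat U) (h : Presheaf.IsSheaf (AlgSp.J S) G)
    (hA : AlgSp.IsAlgSpace (⟨G, h⟩ : AlgSp.Sp S))
    (hPq : P (ObjectProperty.homMk (prMap q) : (⟨G, h⟩ : AlgSp.Sp S) ⟶ (AlgSp.yon S).obj U)) : RepAt P q := by
  refine ⟨⟨⟨G, h⟩, hA⟩, BasedFunctor.id _, isEquivOver_refl, ?_⟩
  convert hPq using 1
  apply ObjectProperty.hom_ext
  exact spMapOfOver_hom (F := (⟨G, h⟩ : AlgSp.Sp S)) q

/-- The 2-isomorphism `ofPshMap a ⋙ q ≅ q'` when `a ≫ prMap q = prMap q'`. -/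
theorem nonempty_iso_of_prMap_eq {G : AlgSp.PSp S} {U : Over S} {q q' : Stk.ofPsh G ⥤ᵇ FibCat.overCat U}
    (h : prMap q = prMap q') : Nonempty (q ≅ q') := by
  have h1 : ∀ a : (Stk.ofPsh G).obj, eqToHom (q.w_obj a).symm ≫ (q.obj a).hom =
      eqToHom (q'.w_obj a).symm ≫ (q'.obj a).hom := fun a => by
    have := congrArg (fun t => t.app (op a.base) a.sec) h
    have h2 : (⟨eqToHom (q.w_obj a).symm ≫ (q.obj a).hom⟩ : ULift.{u+1} (a.base ⟶ U)) =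
      ⟨eqToHom (q'.w_obj a).symm ≫ (q'.obj a).hom⟩ := this
    exact congrArg ULift.down h2
  have hw : ∀ a, (q.obj a).left = (q'.obj a).left := fun a => (q.w_obj a).trans (q'.w_obj a).symm
  refine ⟨BasedNatIso.mkNatIso (NatIso.ofComponents (fun a => Over.isoMk (eqToIso (hw a)) ?_)
    (fun {a b} m => ?_)) (fun a => ?_)⟩
  · have := h1 a
    rw [← cancel_epi (eqToHom (q.w_obj a).symm)]
    simpa using this.symm
  · have e1 := IsHomLift.fac' (FibCat.overCat U).p ((Stk.ofPsh G).p.map m) (q.map m)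
    have e2 := IsHomLift.fac' (FibCat.overCat U).p ((Stk.ofPsh G).p.map m) (q'.map m)
    apply Over.OverMorphism.ext
    change (FibCat.overCat U).p.map (q.map m) ≫ eqToHom (hw b) = eqToHom (hw a) ≫ (FibCat.overCat U).p.map (q'.map m)
    rw [e1, e2]
    simp
  · refine IsHomLift.of_fac' _ _ _ (q.w_obj a) (q'.w_obj a) ?_
    change eqToHom (hw a) = _
    simp

/-- The presheaf `G` over `h_U` is (isomorphic to) an algebraic space whose map to `h_U` has `P` (any `P`). -/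
def RepPsh (P : MorphismProperty (AlgSp.Sp S)) {U : Over S} {G : AlgSp.PSp S} (q : G ⟶ (AlgSp.pyon S).obj U) : Prop :=
  ∃ (F : AlgSp.Space S) (α : F.obj.obj ≅ G), P (ObjectProperty.homMk (α.hom ≫ q) : F.obj ⟶ (AlgSp.yon S).obj U)

theorem RepPsh.of_iso {P : MorphismProperty (AlgSp.Sp S)} {U : Over S} {G G' : AlgSp.PSp S}
    {q : G ⟶ (AlgSp.pyon S).obj U} {q' : G' ⟶ (AlgSp.pyon S).obj U} (h : RepPsh P q) (β : G ≅ G')
    (hβ : β.hom ≫ q' = q) : RepPsh P q' := by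
  obtain ⟨F, α, hP⟩ := h
  refine ⟨F, α ≪≫ β, ?_⟩
  rw [Iso.trans_hom, Category.assoc, hβ]
  exact hP

theorem RepPsh.mono {P Q : MorphismProperty (AlgSp.Sp S)} {U : Over S} {G : AlgSp.PSp S}
    {q : G ⟶ (AlgSp.pyon S).obj U} (h : RepPsh P q)
    (hPQ : ∀ ⦃F : AlgSp.Sp S⦄ (a : F ⟶ (AlgSp.yon S).obj U), AlgSp.IsAlgSpace F → P a → Q a) : RepPsh Q q := by
  obtain ⟨F, α, hP⟩ := h
  exact ⟨F, α, hPQ _ F.property hP⟩

theorem RepPsh.isAlgSpaceP {P : MorphismProperty (AlgSp.Sp S)} {U : Over S} {G : AlgSp.PSp S}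
    {q : G ⟶ (AlgSp.pyon S).obj U} (h : RepPsh P q) : AlgSp.IsAlgSpaceP G := by
  obtain ⟨F, α, -⟩ := h
  exact ((AlgSp.isAlgSpaceP_obj_iff F.obj).2 F.property).of_iso α

theorem repPsh_of {P : MorphismProperty (AlgSp.Sp S)} {U : Over S} {G : AlgSp.PSp S}
    (q : G ⟶ (AlgSp.pyon S).obj U) (h : Presheaf.IsSheaf (AlgSp.J S) G)
    (hA : AlgSp.IsAlgSpace (⟨G, h⟩ : AlgSp.Sp S))
    (hPq : P (ObjectProperty.homMk q : (⟨G, h⟩ : AlgSp.Sp S) ⟶ (AlgSp.yon S).obj U)) : RepPsh P q :=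
  ⟨⟨⟨G, h⟩, hA⟩, Iso.refl _, by
    rw [Iso.refl_hom]
    convert hPq using 2
    exact Category.id_comp q⟩

theorem repPsh_iff {P : MorphismProperty (AlgSp.Sp S)} (hP : IsoInv P) {U : Over S} {G : AlgSp.PSp S}
    (q : G ⟶ (AlgSp.pyon S).obj U) :
    RepPsh P q ↔ ∃ h : Presheaf.IsSheaf (AlgSp.J S) G, AlgSp.IsAlgSpace (⟨G, h⟩ : AlgSp.Sp S) ∧
      P (ObjectProperty.homMk q : (⟨G, h⟩ : AlgSp.Sp S) ⟶ (AlgSp.yon S).obj U) := by
  constructor
  · rintro ⟨F, α, hPe⟩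
    have hG : Presheaf.IsSheaf (AlgSp.J S) G := (Presheaf.isSheaf_of_iso_iff α).1 F.obj.property
    let α' : F.obj ≅ (⟨G, hG⟩ : AlgSp.Sp S) :=
      (fullyFaithfulSheafToPresheaf (AlgSp.J S) _).preimageIso (X := F.obj) (Y := (⟨G, hG⟩ : AlgSp.Sp S)) α
    refine ⟨hG, F.property.of_iso α', ?_⟩
    have h1 := hP F.property (F.property.of_iso α') (AlgSp.IsAlgSpace.yon_obj U) α'.symm _ hPe
    convert h1 using 1
    apply ObjectProperty.hom_ext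
    change q = α.inv ≫ α.hom ≫ q
    rw [Iso.inv_hom_id_assoc]
  · rintro ⟨h, hA, hPq⟩
    exact repPsh_of q h hA hPq

/-- The same with `G` given as a sheaf. -/
theorem repPsh_hom_iff {P : MorphismProperty (AlgSp.Sp S)} (hP : IsoInv P) {U : Over S} {G : AlgSp.Sp S}
    (q : G ⟶ (AlgSp.yon S).obj U) : RepPsh P (U := U) (G := G.obj) q.hom ↔ AlgSp.IsAlgSpace G ∧ P q := by
  rw [repPsh_iff hP]
  constructor
  · rintro ⟨h, hA, hPq⟩
    exact ⟨hA, hPq⟩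
  · rintro ⟨hA, hPq⟩
    exact ⟨G.property, hA, hPq⟩

/-- `RepAt` through a presheaf model (any `P`). -/
theorem repAt_iff_repPsh {P : MorphismProperty (AlgSp.Sp S)} {U : Over S} {𝒲 : BasedCategory.{v, w} (Over S)}
    (q : 𝒲 ⥤ᵇ FibCat.overCat U) {G : AlgSp.PSp S} (E : Stk.ofPsh G ⥤ᵇ 𝒲) (hE : FibCat.IsEquivOver E) :
    RepAt P q ↔ RepPsh P (prMap (BasedFunctor.comp E q)) := by
  constructor
  · intro h
    obtain ⟨F, e, he, hP⟩ := h.of_equiv' E hE (Iso.refl _)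
    obtain ⟨α, hα⟩ := exists_pshIso e he
    refine ⟨F, α, ?_⟩
    convert hP using 1
    apply ObjectProperty.hom_ext
    change α.hom ≫ prMap (BasedFunctor.comp E q) =
      (AlgSt.spMapOfOver (BasedFunctor.comp e (BasedFunctor.comp E q))).hom
    rw [spMapOfOver_hom, prMap_comp, hα]
  · rintro ⟨F, α, hP⟩
    refine ⟨F, BasedFunctor.comp (Stk.ofPshMap α.hom) E, isEquivOver_comp (isEquivOver_ofPshMap α) hE, ?_⟩
    convert hP using 1
    apply ObjectProperty.hom_ext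
    change (AlgSt.spMapOfOver (BasedFunctor.comp (Stk.ofPshMap α.hom) (BasedFunctor.comp E q))).hom =
      α.hom ≫ prMap (BasedFunctor.comp E q)
    rw [spMapOfOver_hom, prMap_comp, pshMap_ofPshMap]

/-- Transfer of `RepAt` along an isomorphism of presheaf models over `h_U` (any `P`). -/
theorem RepAt.transfer {P : MorphismProperty (AlgSp.Sp S)} {U : Over S} {𝒲 : BasedCategory.{v, w} (Over S)}
    {𝒲' : BasedCategory.{v', w'} (Over S)} {q : 𝒲 ⥤ᵇ FibCat.overCat U} {q' : 𝒲' ⥤ᵇ FibCat.overCat U}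
    (h : RepAt P q) {G G' : AlgSp.PSp S} (E : Stk.ofPsh G ⥤ᵇ 𝒲) (hE : FibCat.IsEquivOver E)
    (E' : Stk.ofPsh G' ⥤ᵇ 𝒲') (hE' : FibCat.IsEquivOver E') (α : G ≅ G')
    (hα : α.hom ≫ prMap (BasedFunctor.comp E' q') = prMap (BasedFunctor.comp E q)) : RepAt P q' := by
  have h1 : RepAt P (BasedFunctor.comp E q) := h.of_equiv' E hE (Iso.refl _)
  have h2 : prMap (BasedFunctor.comp (Stk.ofPshMap α.hom) (BasedFunctor.comp E' q')) =
      prMap (BasedFunctor.comp E q) := by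
    rw [prMap_comp, pshMap_ofPshMap, hα]
  obtain ⟨i⟩ := nonempty_iso_of_prMap_eq h2
  have h3 : RepAt P (BasedFunctor.comp E' q') := h1.of_equiv (Stk.ofPshMap α.hom) (isEquivOver_ofPshMap α) i
  exact h3.of_equiv E' hE' (Iso.refl _)

end K739.Rep
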