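import Groth.Agent.AlgSt.K739.ChartDiag
import Groth.Agent.AlgSt.K738.RepDiag
import Groth.Agent.AlgSt.K740.DiagRep
import Groth.Agent.S12775

/-!
# Diagonals of representable morphisms; unramified and locally quasi-finite charts

* `K739.RepDiag2.repByAlgSpWith_diag_of_rep`: the diagonal of a representable morphism has every property of
  monomorphisms locally of finite type.
* `K739.RepDiag2.repByAlgSpWith_diag_toSelf_of_chart`: `P(𝒲 ⟶ 𝒳)` for a flat, locally finitely presented surjective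
  chart `𝒲 = ofSp W` gives `P(diag (toSelf 𝒳))`, when `P` contains the monomorphisms locally of finite type.
-/

set_option autoImplicit false
set_option linter.unusedVariables false
set_option backward.isDefEq.respectTransparency false
set_option backward.isDefEq.respectTransparency.types false

universe w₃ v₃ w₂ v₂ w₁ v₁ w' v' w v u

open CategoryTheory CategoryTheory.Limits AlgebraicGeometry Opposite

namespace K739.RepDiag2

open K739.Psh K739.Rep K739.Isom K739.Diag K739.DiagComp K739.Props K739.Alg K739.Descent K739.ChartDiag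

variable {S : Scheme.{u}}

/-- `P` contains the monomorphisms of schemes locally of finite type. -/
abbrev HasMono (P : MorphismProperty (AlgSp.Sp S)) : Prop :=
  ∀ ⦃U V : Over S⦄ (i : V ⟶ U), Mono i → LocallyOfFiniteType i.left → P ((AlgSp.yon S).map i)

theorem repByAlgSpWith_diag_of_rep {P : MorphismProperty (AlgSp.Sp S)} (hP : HasMono P)
    {𝒳 : BasedCategory.{v, w} (Over S)} {𝒴 : BasedCategory.{v', w'} (Over S)} {f : 𝒳 ⥤ᵇ 𝒴}
    (hf : AlgSt.RepByAlgSp1 f) : AlgSt.RepByAlgSpWith P (FibCat.diag f) := by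
  refine K738.repByAlgSpWith_diag (K738.repByAlgSpWith_top_iff.2 hf) ?_
  intro F U V π i fst g _ sq hi
  exact hP i hi ((K595.DiagRel.repWith_diagonal_lft F.property π).2 _ _ _ sq)

theorem hasMono_unram : HasMono (Unram S) := fun U V i hi hl => by
  have := K597.stableBC_inf @LocallyOfFiniteType.{u} @FormallyUnramified.{u}
  have h1 : Mono i.left := K595.DiagAlg.mono_left i
  have h2 : (@LocallyOfFiniteType ⊓ @FormallyUnramified : MorphismProperty Scheme.{u}) i.left :=
    ⟨hl, (inferInstance : FormallyUnramified i.left)⟩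
  refine K597.locP_of_repWith (P := @LocallyOfFiniteType ⊓ @FormallyUnramified) ?_
    ((AlgSp.repWith_yon_map_iff _ i).2 h2)
  rintro A B C e f he ⟨h3, h4⟩
  have he' : Etale e := he
  have h5 : FormallyUnramified e := inferInstance
  exact ⟨(inferInstance : LocallyOfFiniteType (e ≫ f)),
    MorphismProperty.comp_mem (W := @FormallyUnramified) e f h5 h4⟩

theorem hasMono_lqf : HasMono (Lqf S) := fun U V i hi hl =>
  K597.locP_mono (P := @LocallyOfFiniteType ⊓ @FormallyUnramified) (Q := @LocallyQuasiFinite ⊓ @LocallyOfFiniteType)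
    (fun A B f (hf : LocallyOfFiniteType f ∧ FormallyUnramified f) => by
      obtain ⟨h1, h2⟩ := hf
      exact ⟨K597.locallyQuasiFinite_of_unramified f, h1⟩) (hasMono_unram i hi hl)

theorem hasMono_lft : HasMono (Lft S) := fun U V i hi hl =>
  K597.locP_mono (P := @LocallyOfFiniteType ⊓ @FormallyUnramified) (Q := @LocallyOfFiniteType)
    (fun A B f (hf : LocallyOfFiniteType f ∧ FormallyUnramified f) => hf.1) (hasMono_unram i hi hl)

/-- The structure morphism of an algebraic space is representable. -/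
theorem repByAlgSp1_toSelf_ofSp (W : AlgSp.Space S) (f : AlgSt.ofSp W.obj ⥤ᵇ FibCat.selfOver (Over S)) :
    AlgSt.RepByAlgSp1 f :=
  Groth.Agent.S12775.result (𝒳 := AlgSt.ofSp W.obj) (𝒴 := FibCat.selfOver (Over S)) (K735.Rep.isFibGrpd_ofSp W.obj)
    K735.Fp.isFibGrpd_selfOver ⟨W, BasedFunctor.id _, isEquivOver_refl⟩ (K740.DiagRep.repByAlgSp_selfOver S) f

theorem loc_unram : AlgSp.IsLocalOnBase AlgSp.IsFppfCover (Unram S) :=
  isLocalOnBase_fppf_of_fpqc (K627.FpqcLocPInst.unram S)

theorem loc_lqf : AlgSp.IsLocalOnBase AlgSp.IsFppfCover (Lqf S) :=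
  isLocalOnBase_fppf_of_fpqc (K627.FpqcLocPInst.lqf S)

/-- `P` of the absolute diagonal from a chart by an algebraic space. -/
theorem repByAlgSpWith_diag_toSelf_of_chart {P : MorphismProperty (AlgSp.Sp S)} (hPb : BC P) (hPc : Comp P)
    (hPl : AlgSp.IsLocalOnBase AlgSp.IsFppfCover P) (hPm : HasMono P)
    (𝒳 : AlgSt.Cat S) (h𝒳 : FibCat.IsFibGrpd 𝒳.p) (hd : AlgSt.RepByAlgSp1 (FibCat.diag (FibCat.toSelf 𝒳)))
    (W : AlgSp.Space S) (w : AlgSt.ofSp W.obj ⥤ᵇ 𝒳)
    (hw₁ : AlgSt.RepByAlgSpWith (AlgSp.LocP @Flat) w)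
    (hw₂ : AlgSt.RepByAlgSpWith (AlgSp.LocP @LocallyOfFinitePresentation) w)
    (hw₃ : AlgSt.RepByAlgSpWith AlgSp.IsSurjectiveMor w) (hw : AlgSt.RepByAlgSpWith P w) :
    AlgSt.RepByAlgSpWith P (FibCat.diag (FibCat.toSelf 𝒳)) :=
  repByAlgSpWith_diag_of_chart hPb hPc hPl (K735.Rep.isFibGrpd_ofSp W.obj) h𝒳 K735.Fp.isFibGrpd_selfOver w
    (FibCat.toSelf 𝒳) hd hw₁ hw₂ hw₃ hw (repByAlgSpWith_diag_of_rep hPm (repByAlgSp1_toSelf_ofSp W _))

end K739.RepDiag2
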